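import Cfsg.Agent.Lib.Char.GTwoTwo.Extend

/-!
# The centralizer of the outer involution and a generating triple
-/

set_option autoImplicit false
set_option linter.all false

open Cfsg CfsgLib.Perm.PrimeBlock CfsgLib.Block Finset
open CfsgLib.Char.MEleven.Order
open scoped ComplexConjugate

namespace CfsgLib.Char.GTwoTwo

universe u

variable {G : Type u} [Group G] [Finite G]

theorem invol_int {χ : G → ℂ} (hχ : IsCharacter G χ) {u : G} (hu : u * u = 1) :
    ∃ z : ℤ, χ u = z := by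
  classical
  obtain ⟨n, ρ, rfl⟩ := hχ
  obtain ⟨b, μ, h1, -, h3⟩ := CfsgLib.Char.exists_eigen_data ρ u
  have hd : orderOf u ∣ 2 := orderOf_dvd_of_pow_eq_one (by rw [pow_two, hu])
  have hμ : ∀ i, μ i = 1 ∨ μ i = -1 := fun i => by
    obtain ⟨k, hk⟩ := hd
    refine sq_eq_one_iff.1 ?_
    rw [hk, pow_mul, h1, one_pow]
  refine ⟨∑ i, if μ i = 1 then 1 else -1, ?_⟩
  have := h3 1
  simp only [pow_one] at this
  rw [this]
  push_cast
  exact Finset.sum_congr rfl fun i _ => by rcases hμ i with e | e <;> rw [e] <;> norm_num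

theorem forty_eight : ∀ c ∈ Nat.divisors 1728, 6 ∣ c → ∀ β ∈ Finset.Icc (0 : ℕ) 27,
    c * c + 128 * (β * β) = 3456 → c = 48 := by
  decide +kernel

theorem perm_four : ∀ σ : Equiv.Perm (Fin 4), σ * σ * σ = 1 → σ ≠ 1 →
    ∃ τ π : Equiv.Perm (Fin 4), τ * τ = 1 ∧ τ ≠ 1 ∧ τ * (σ * τ * σ⁻¹) = σ * τ * σ⁻¹ * τ ∧
      σ * τ * σ⁻¹ ≠ τ ∧ π * σ * π⁻¹ = σ * τ := by
  decide +kernel

open Fin.NatCast in
theorem matY_pow : ∀ (n : ℕ) (i j : Fin 6),
    ((Ctx.matY : Matrix (Fin 6) (Fin 6) ℂ) ^ n) i j = if i = j + (n : Fin 6) then 1 else 0 := by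
  intro n
  induction n with
  | zero => intro i j; simp [Matrix.one_apply]
  | succ n ih =>
    intro i j
    rw [pow_succ, Matrix.mul_apply, Finset.sum_eq_single (j + 1)]
    · rw [ih]
      simp only [Ctx.matY, if_true, mul_one, Nat.cast_succ]
      congr 1
      rw [add_assoc, add_comm (1 : Fin 6)]
    · intro k _ hk
      simp [Ctx.matY, hk]
    · intro h; exact absurd (Finset.mem_univ _) h

open Fin.NatCast in
theorem matY_trace {n : ℕ} (hn : n % 6 ≠ 0) :
    ((Ctx.matY : Matrix (Fin 6) (Fin 6) ℂ) ^ n).trace = 0 := by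
  refine Finset.sum_eq_zero fun i _ => ?_
  rw [Matrix.diag_apply, matY_pow, if_neg]
  intro e
  rw [left_eq_add] at e
  exact hn (by simpa [Fin.natCast_eq_zero] using congrArg Fin.val e)

theorem column_le' [Fintype G] [Fintype (IrrCharacter G)] (g : G) (S : Finset (IrrCharacter G)) :
    ∑ ψ ∈ S, Complex.normSq ((ψ : G → ℂ) g) ≤
      (Nat.card (Subgroup.centralizer ({g} : Set G)) : ℝ) := by
  classical
  have h := CfsgLib.Char.sum_irr_mul_conj g g
  rw [if_pos (IsConj.refl g)] at h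
  simp only [Complex.mul_conj] at h
  have h' : ∑ ψ : IrrCharacter G, Complex.normSq ((ψ : G → ℂ) g) =
      (Nat.card (Subgroup.centralizer ({g} : Set G)) : ℝ) := by exact_mod_cast h
  rw [← h']
  exact Finset.sum_le_sum_of_subset_of_nonneg (Finset.subset_univ S) fun ψ _ _ => Complex.normSq_nonneg _

theorem seven_counts : ∀ n ∈ Nat.divisors 288, n % 7 = 1 → n = 1 ∨ n = 8 ∨ n = 36 ∨ n = 288 := by
  decide +kernel

namespace Ctx

variable (K : Ctx G)

/-- An element of the centralizer of the outer involution completing the generators. -/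
structure Third (e : G) : Prop where
  mem : e ∈ K.T
  sq : e * e = 1
  ne : e ≠ 1
  comm_u : e * K.F.y ^ 3 = K.F.y ^ 3 * e
  comm : e * (K.F.y ^ 2 * e * (K.F.y ^ 2)⁻¹) = K.F.y ^ 2 * e * (K.F.y ^ 2)⁻¹ * e
  conj_ne : K.F.y ^ 2 * e * (K.F.y ^ 2)⁻¹ ≠ e
  three : IsConj (K.F.y ^ 2) (K.F.y ^ 2 * e)

theorem Third.conjugate {e : G} (he : K.Third e) : K.Third (K.F.y ^ 2 * e * (K.F.y ^ 2)⁻¹) := by
  set s := K.F.y ^ 2 with hs
  refine ⟨K.normal.conj_mem _ he.mem s, ?_, ?_, ?_, ?_, ?_, ?_⟩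
  · calc s * e * s⁻¹ * (s * e * s⁻¹) = s * (e * e) * s⁻¹ := by group
      _ = 1 := by rw [he.sq]; group
  · exact fun e' => he.ne (conj_eq_one_iff.1 e')
  · have hc : Commute s (K.F.y ^ 3) := (Commute.refl K.F.y).pow_pow 2 3
    exact ((hc.mul_left (show Commute e (K.F.y ^ 3) from he.comm_u)).mul_left hc.inv_left).eq
  · have hc := he.comm
    rw [← hs] at hc ⊢
    calc s * e * s⁻¹ * (s * (s * e * s⁻¹) * s⁻¹) = s * (e * (s * e * s⁻¹)) * s⁻¹ := by group
      _ = s * (s * e * s⁻¹ * e) * s⁻¹ := by rw [hc]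
      _ = s * (s * e * s⁻¹) * s⁻¹ * (s * e * s⁻¹) := by group
  · intro e'
    exact he.conj_ne (mul_left_cancel (mul_right_cancel e'))
  · refine he.three.trans (isConj_iff.2 ⟨s, ?_⟩)
    rw [← hs]
    group

variable {K}

theorem Rep.trace_y_pow (M : Rep K) {n : ℕ} (hn : n % 6 ≠ 0) : (M.R (K.F.y ^ n)).trace = 0 := by
  rw [map_pow, M.R_y, matY_trace hn]

theorem pairs_u (K : Ctx G) :
    CfsgLib.Char.classConst (K.F.y ^ 3) (K.F.y ^ 3) K.F.x = 7 := by
  classical
  set u := K.F.y ^ 3 with hu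
  set x := K.F.x with hx
  have hu1 : u * u = 1 := by
    rw [hu, ← pow_add, show 3 + 3 = orderOf K.F.y by rw [K.F.hy], pow_orderOf_eq_one]
  have hx7 : x ^ 7 = 1 := by rw [hx, ← K.F.hx, pow_orderOf_eq_one]
  have hinv : ∀ k : ℕ, u * x ^ k = (x ^ k)⁻¹ * u := fun k => by
    have h := K.u_inv
    rw [← hu, ← hx] at h
    rw [← inv_pow, ← h, conj_pow]
    group
  have hconj : ∀ i : ℕ, IsConj u (x ^ i * u) := fun i => by
    refine isConj_iff.2 ⟨x ^ (4 * i), ?_⟩
    have h1 : x ^ (4 * i) * x ^ (4 * i) = x ^ i := by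
      rw [← pow_add, show 4 * i + 4 * i = i + 7 * i by ring, pow_add, pow_mul, hx7, one_pow, mul_one]
    have h2 : u * (x ^ (4 * i))⁻¹ = x ^ (4 * i) * u := by
      calc u * (x ^ (4 * i))⁻¹
          = x ^ (4 * i) * ((x ^ (4 * i))⁻¹ * u) * (x ^ (4 * i))⁻¹ := by group
        _ = x ^ (4 * i) * (u * x ^ (4 * i)) * (x ^ (4 * i))⁻¹ := by rw [hinv]
        _ = x ^ (4 * i) * u := by group
    rw [mul_assoc, h2, ← mul_assoc, h1]
  have hsnd : ∀ i : ℕ, IsConj u (x ^ i * u * x) := fun i => by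
    have h : x ^ i * u * x = x ^ (i + 6) * u := by
      rw [mul_assoc, show u * x = x⁻¹ * u by simpa using hinv 1, ← mul_assoc,
        show x⁻¹ = x ^ 6 from inv_eq_of_mul_eq_one_left (by rw [← pow_succ, hx7]), ← pow_add]
    exact h ▸ hconj (i + 6)
  have hsq : ∀ i : ℕ, x ^ i * u * (x ^ i * u) = 1 := fun i => by
    rw [show x ^ i * u * (x ^ i * u) = x ^ i * (u * x ^ i) * u by group, hinv, ← mul_assoc,
      mul_inv_cancel, one_mul, hu1]
  let f : Fin 7 → {q : G × G // IsConj u q.1 ∧ IsConj u q.2 ∧ q.1 * q.2 = x} := fun i =>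
    ⟨(x ^ (i : ℕ) * u, x ^ (i : ℕ) * u * x), hconj i, hsnd i, by
      show x ^ (i : ℕ) * u * (x ^ (i : ℕ) * u * x) = x
      rw [← mul_assoc, hsq, one_mul]⟩
  have hf : Function.Bijective f := by
    refine ⟨fun i j e => ?_, fun ⟨⟨a, b⟩, ha, hb, hab⟩ => ?_⟩
    · have e1 : x ^ (i : ℕ) * u = x ^ (j : ℕ) * u := congrArg (fun q => q.1.1) e
      exact Fin.ext (pow_injOn_Iio_orderOf (by rw [K.F.hx]; exact i.2) (by rw [K.F.hx]; exact j.2)
        (mul_right_cancel e1))
    · simp only at ha hb hab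
      obtain ⟨ha2, -, hai, -⟩ := pair_inverts K.orderOf_u ha hb hab
      obtain ⟨i, j, hj, rfl⟩ := K.F.norm a (hai ▸ inv_mem (Subgroup.mem_zpowers _))
      have hj3 : j = 3 := by
        have h1 : x ^ 3 ^ j = x⁻¹ := by
          rw [← hai, hx, ← conj_pow_eq K.F.conj j, mul_inv_rev]
          calc K.F.y ^ j * K.F.x * (K.F.y ^ j)⁻¹
              = K.F.x ^ i * (K.F.y ^ j * K.F.x * (K.F.y ^ j)⁻¹) * (K.F.x ^ i)⁻¹ := by
                rw [conj_pow_eq K.F.conj j, ← pow_add, add_comm, pow_add, mul_assoc, mul_inv_cancel,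
                  mul_one]
            _ = _ := by group
        rw [show x⁻¹ = x ^ 6 from inv_eq_of_mul_eq_one_left (by rw [← pow_succ, hx7]),
          pow_eq_pow_iff_modEq, K.F.hx] at h1
        interval_cases j <;> first | rfl | exact absurd h1 (by decide)
      subst hj3
      refine ⟨⟨i % 7, Nat.mod_lt _ (by norm_num)⟩, Subtype.ext (Prod.ext ?_ ?_)⟩
      · show x ^ (i % 7) * u = x ^ i * u
        rw [← K.F.hx, pow_mod_orderOf]
      · show x ^ (i % 7) * u * x = b
        rw [← K.F.hx, pow_mod_orderOf]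
        calc x ^ i * u * x = x ^ i * u * (x ^ i * u * b) := by rw [hab]
          _ = b := by rw [← mul_assoc, hsq, one_mul]
  rw [CfsgLib.Char.classConst, ← Nat.card_congr (Equiv.ofBijective f hf), Nat.card_fin]

/-- The six characters that do not vanish on elements of order seven, and the centralizer. -/
theorem cent_u (M : Rep K) :
    Nat.card (Subgroup.centralizer ({K.F.y ^ 3} : Set G)) = 48 := by
  classical
  haveI : Fact (Nat.Prime 7) := ⟨by norm_num⟩
  haveI := Fintype.ofFinite G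
  haveI := Fintype.ofFinite (IrrCharacter G)
  haveI := K.normal
  haveI := Fintype.ofFinite K.T
  set u := K.F.y ^ 3 with hu
  have huT : u ∉ K.T := K.u_not
  have hu1 : u * u = 1 := by rw [hu, ← pow_add, show 3 + 3 = orderOf K.F.y by rw [K.F.hy],
    pow_orderOf_eq_one]
  obtain ⟨σ, hσi, hσr⟩ := K.exists_extension K.B.b K.B.b_deg K.B.b_uniq
  let A : IrrCharacter G := ⟨_, M.irr⟩
  let Bc : IrrCharacter G := ⟨_, hσi⟩
  let tw : IrrCharacter G → IrrCharacter G := fun χ => linMul K.sg χ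
  have htw : ∀ (χ : IrrCharacter G) (g : G), (tw χ : G → ℂ) g = (K.sg g : ℂ) * (χ : G → ℂ) g :=
    fun χ g => rfl
  have htu : ∀ χ : IrrCharacter G, (tw χ : G → ℂ) u = -(χ : G → ℂ) u := fun χ => by
    rw [htw, K.sg_not huT]; simp
  have htx : ∀ χ : IrrCharacter G, (tw χ : G → ℂ) K.F.x = (χ : G → ℂ) K.F.x := fun χ => by
    rw [htw, K.sg_mem K.x_mem]; simp
  have htt : ∀ χ, tw (tw χ) = χ := fun χ => Subtype.ext (funext fun g => by
    rw [htw, htw]
    by_cases hg : g ∈ K.T
    · rw [K.sg_mem hg]; simp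
    · rw [K.sg_not hg]; simp)
  have hd1 : ∀ χ : IrrCharacter G, dg (tw χ) = dg χ := fun χ => by
    have h := val_one (tw χ)
    rw [htw, map_one, Units.val_one, one_mul, val_one] at h
    exact_mod_cast h.symm
  have hne : ∀ (χ : IrrCharacter G) (ψ : IrrCharacter K.T),
      (∀ t : K.T, (χ : G → ℂ) t = (ψ : K.T → ℂ) t) → tw χ ≠ χ := by
    intro χ ψ hres e
    have hoff : ∀ g, g ∉ K.T → (χ : G → ℂ) g = 0 := fun g hg => by
      have := htw χ g
      rw [e, K.sg_not hg] at this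
      simp at this
      linear_combination (2 : ℂ)⁻¹ * this
    have h1 := CfsgLib.Char.classInner_irr_self χ
    have h2 := CfsgLib.Char.classInner_irr_self ψ
    rw [CfsgLib.Char.classInner_self, ← Complex.ofReal_one, Complex.ofReal_inj, K.h.card] at h1
    rw [CfsgLib.Char.classInner_self, ← Complex.ofReal_one, Complex.ofReal_inj, K.card_T] at h2
    have hs : ∑ g : G, ‖(χ : G → ℂ) g‖ ^ 2 = ∑ t : K.T, ‖(ψ : K.T → ℂ) t‖ ^ 2 := by
      rw [← Finset.sum_filter_add_sum_filter_not Finset.univ (fun g => g ∈ K.T),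
        Finset.sum_eq_zero (s := Finset.univ.filter fun g => ¬ g ∈ K.T) (fun g hg => by
          rw [hoff g (Finset.mem_filter.1 hg).2]; simp), add_zero,
        Finset.sum_subtype (Finset.univ.filter fun g => g ∈ K.T) (p := fun g => g ∈ K.T) (by simp)]
      exact Finset.sum_congr rfl fun t _ => by rw [hres t]
    rw [hs] at h1
    push_cast at h1 h2
    linarith
  have hA6 : dg A = 6 := by
    have h := val_one A
    change (M.R 1).trace = _ at h
    rw [map_one, Matrix.trace_one, Fintype.card_fin] at h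
    exact_mod_cast h.symm
  have hB27 : dg Bc = 27 := by
    have h := val_one Bc
    change σ.character 1 = _ at h
    rw [Representation.char_one, Module.finrank_fin_fun] at h
    exact_mod_cast h.symm
  have hx7 : orderOf (⟨K.F.x, K.x_mem⟩ : K.T) = 7 := by rw [Subgroup.orderOf_mk, K.F.hx]
  have hAx : (A : G → ℂ) K.F.x = -1 := by
    show (M.R K.F.x).trace = -1
    rw [show (M.R K.F.x).trace = _ from M.restr ⟨K.F.x, K.x_mem⟩]
    exact K.B.a_seven _ hx7
  have hBx : (Bc : G → ℂ) K.F.x = -1 := (hσr ⟨K.F.x, K.x_mem⟩).trans (K.B.b_seven _ hx7)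
  have hAu : (A : G → ℂ) u = 0 := by
    show (M.R u).trace = 0
    rw [hu, M.trace_y_pow (by norm_num)]
  let o := oneChar G
  have ho : ∀ g : G, (o : G → ℂ) g = 1 := fun g => rfl
  let six : Finset (IrrCharacter G) := {o, tw o, A, tw A, Bc, tw Bc}
  have hoo : tw o ≠ o := fun e => by
    have h := htu o
    rw [e, ho] at h
    norm_num at h
  have hAA : tw A ≠ A := hne A K.B.a M.restr
  have hBB : tw Bc ≠ Bc := hne Bc K.B.b hσr
  have hdo : dg o = 1 := dg_one
  have hdis : o ≠ tw o ∧ o ≠ A ∧ o ≠ tw A ∧ o ≠ Bc ∧ o ≠ tw Bc ∧ tw o ≠ A ∧ tw o ≠ tw A ∧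
      tw o ≠ Bc ∧ tw o ≠ tw Bc ∧ A ≠ tw A ∧ A ≠ Bc ∧ A ≠ tw Bc ∧ tw A ≠ Bc ∧ tw A ≠ tw Bc ∧ Bc ≠ tw Bc := by
    refine ⟨hoo.symm, ?_, ?_, ?_, ?_, ?_, ?_, ?_, ?_, hAA.symm, ?_, ?_, ?_, ?_, hBB.symm⟩ <;>
      · intro e
        have := congrArg dg e
        simp only [hd1, hdo, hA6, hB27] at this
        omega
  obtain ⟨n1, n2, n3, n4, n5, n6, n7, n8, n9, n10, n11, n12, n13, n14, n15⟩ := hdis
  have hclosed : ∀ χ, tw χ ∈ six → χ ∈ six := by
    intro χ hχ
    rw [← htt χ]
    simp only [six, Finset.mem_insert, Finset.mem_singleton] at hχ ⊢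
    rcases hχ with e | e | e | e | e | e <;> rw [e] <;> simp [htt]
  have hsix : ∀ (f : IrrCharacter G → ℝ), ∑ χ ∈ six, f χ = f o + (f (tw o) + (f A + (f (tw A) + (f Bc + f (tw Bc))))) := by
    intro f
    simp [six, n1, n2, n3, n4, n5, n6, n7, n8, n9, n10, n11, n12, n13, n14, n15]
  have hzero : ∀ ψ : IrrCharacter G, ψ ∉ six → (ψ : G → ℂ) u * (ψ : G → ℂ) u *
      conj ((ψ : G → ℂ) K.F.x) / (dg ψ : ℂ) = 0 := by
    intro ψ hψ
    by_cases hψu : (ψ : G → ℂ) u = 0
    · rw [hψu]; simp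
    obtain ⟨z, hz⟩ := CfsgLib.BSW.exists_int_value ψ (g := K.F.x) fun m hm => by
      obtain ⟨j, -, hj⟩ := exists_pow_three (m : ZMod 7) (fun e => by
        have h7 : 7 ∣ m := (ZMod.natCast_eq_zero_iff m 7).1 e
        have := Nat.eq_one_of_dvd_coprimes hm h7 (by rw [K.h.card]; norm_num)
        norm_num at this)
      have hxm : K.F.x ^ m = K.F.y ^ j * K.F.x * (K.F.y ^ j)⁻¹ := by
        rw [conj_pow_eq K.F.conj, pow_eq_pow_iff_modEq, K.F.hx, ← ZMod.natCast_eq_natCast_iff]
        push_cast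
        exact hj
      rw [hxm]
      exact CfsgLib.Char.isClassFunction_irr ψ K.F.x (K.F.y ^ j)
    have hne' : tw ψ ≠ ψ := fun e => hψu (by
      have h := htu ψ
      rw [e] at h
      linear_combination (2 : ℂ)⁻¹ * h)
    have hψ' : tw ψ ∉ six := fun e => hψ (hclosed ψ e)
    have hcol := column_le' K.F.x (insert ψ (insert (tw ψ) six))
    rw [Finset.sum_insert (by simp [hne'.symm, hψ]), Finset.sum_insert hψ', hsix, K.h.cent_card K.F.hx,
      htx, htx, htx, htx, hz, hAx, hBx, ho] at hcol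
    simp only [Complex.normSq_neg, map_one, Complex.normSq_intCast] at hcol
    push_cast at hcol
    have hz2 : ((z * z : ℤ) : ℝ) < 1 := by push_cast; linarith
    have hz3 : z * z < 1 := by exact_mod_cast hz2
    have hz0 : z = 0 := by
      by_contra h0
      have := Int.mul_self_le_mul_self (by norm_num : (0 : ℤ) ≤ 1) (show 1 ≤ |z| by
        exact Int.one_le_abs h0)
      rw [abs_mul_abs_self] at this
      linarith
    rw [hz, hz0]; simp
  -- the class multiplication formula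
  obtain ⟨β, hβ⟩ := invol_int (CfsgLib.Char.isCharacter_irr Bc) hu1
  have hβb := natAbs_le_deg Bc hβ
  rw [hB27] at hβb
  have hcc : CfsgLib.Char.classConst u u K.F.x = 7 := K.pairs_u
  have hm := class_mul u u K.F.x
  rw [hcc, ← Finset.sum_subset (Finset.subset_univ six) (fun ψ _ hψ => hzero ψ hψ)] at hm
  rw [show six = ({o, tw o, A, tw A, Bc, tw Bc} : Finset (IrrCharacter G)) from rfl,
    Finset.sum_insert (by simp [n1, n2, n3, n4, n5]), Finset.sum_insert (by simp [n6, n7, n8, n9]),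
    Finset.sum_insert (by simp [n10, n11, n12]), Finset.sum_insert (by simp [n13, n14]),
    Finset.sum_pair n15, htu, htu, htu, htx, htx, htx, hd1, hd1, hd1, hdo, hA6, hB27, ho, ho, hAu, hAx,
    hBx, hβ, K.h.card] at hm
  simp only [map_one, map_neg, mul_zero, zero_mul, neg_zero, zero_div, add_zero, zero_add, mul_one,
    Nat.cast_one, div_one, neg_mul_neg] at hm
  set c := Nat.card (Subgroup.centralizer ({u} : Set G)) with hc
  have h6 : 6 ∣ c := by
    rw [← K.F.hy]
    refine Subgroup.orderOf_dvd_natCard _ (Subgroup.mem_centralizer_singleton_iff.2 ?_)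
    rw [hu]
    exact (Commute.self_pow K.F.y 3).eq
  have hdvd : c ∈ Nat.divisors 1728 := by
    refine Nat.mem_divisors.2 ⟨?_, by norm_num⟩
    have hd : c ∣ 1728 * 7 := by
      rw [show 1728 * 7 = Nat.card G by rw [K.h.card]]
      exact Subgroup.card_subgroup_dvd_card _
    refine Nat.Coprime.dvd_of_dvd_mul_right ?_ hd
    refine ((Nat.Prime.coprime_iff_not_dvd (by norm_num)).2 fun h7 => ?_).symm
    obtain ⟨g, hg⟩ := exists_prime_orderOf_dvd_card' (G := Subgroup.centralizer ({u} : Set G)) 7 h7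
    have hg' : orderOf (g : G) = 7 := by rw [Subgroup.orderOf_coe, hg]
    have hmem := K.h.cent hg' (Subgroup.mem_centralizer_singleton_iff.1 g.2).symm
    exact huT ((Subgroup.zpowers_le.2 (K.seven_mem _ hg')) hmem)
  have key : (((c * c + 128 * (β.natAbs * β.natAbs) : ℕ)) : ℤ) = ((3456 : ℕ) : ℤ) := by
    push_cast
    rw [abs_mul_abs_self]
    have : (((c : ℤ) * c + 128 * (β * β) : ℤ) : ℂ) = ((3456 : ℤ) : ℂ) := by
      push_cast at hm ⊢
      linear_combination (7 : ℂ)⁻¹ * hm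
    exact_mod_cast this
  exact forty_eight c hdvd h6 β.natAbs (Finset.mem_Icc.2 ⟨Nat.zero_le _, hβb⟩) (by exact_mod_cast key)

theorem no_commuting (M : Rep K) {v : G} (hv : v ∈ K.T) (hvo : orderOf v = 2) :
    K.F.y ^ 2 * v ≠ v * K.F.y ^ 2 := by
  classical
  intro hc
  haveI := Fintype.ofFinite G
  set s := K.F.y ^ 2 with hs
  have hso : orderOf s = 3 := K.orderOf_s
  let V := Subgroup.zpowers v
  have hV : Nat.card V = 2 := by rw [Nat.card_zpowers, hvo]
  haveI := Fintype.ofFinite V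
  have hcV : ∀ w ∈ V, s * w = w * s := by
    rintro _ ⟨k, rfl⟩
    exact ((show Commute s v from hc).zpow_right k).eq
  have hA : IsCharacter G fun g => (M.R g).trace :=
    CfsgLib.Char.isCharacter_of_isIrr M.irr
  have hv1 : v ≠ 1 := fun e => by rw [e, orderOf_one] at hvo; norm_num at hvo
  have hVu : (Finset.univ : Finset V) = {1, ⟨v, Subgroup.mem_zpowers v⟩} := by
    refine (Finset.eq_of_subset_of_card_le (Finset.subset_univ _) ?_).symm
    rw [Finset.card_univ, ← Nat.card_eq_fintype_card, hV, Finset.card_pair]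
    exact fun e => hv1 (congrArg Subtype.val e).symm
  have hVsum : ∀ f : V → ℂ, ∑ w : V, f w = f 1 + f ⟨v, Subgroup.mem_zpowers v⟩ := by
    intro f
    rw [hVu, Finset.sum_pair (fun e => hv1 (congrArg Subtype.val e).symm)]
  have h1 : (M.R 1).trace = 6 := by rw [map_one, Matrix.trace_one, Fintype.card_fin]; norm_num
  have hv2 : (M.R v).trace = -2 := by
    rw [show (M.R v).trace = _ from M.restr ⟨v, hv⟩]
    exact (K.B.invol _ (by rw [Subgroup.orderOf_mk, hvo])).1
  have hsv : ∀ w : G, w ∈ K.T → Commute w v → orderOf w = 3 → (M.R (w * v)).trace = 1 := by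
    intro w hw hwv hwo
    rw [show (M.R (w * v)).trace = _ from M.restr ⟨w * v, mul_mem hw hv⟩]
    refine K.B.six _ ?_
    rw [Subgroup.orderOf_mk, hwv.orderOf_mul_eq_mul_orderOf_of_coprime (by rw [hwo, hvo]; norm_num),
      hwo, hvo]
  have hs1 : (M.R s).trace = 0 := M.trace_y_pow (by norm_num)
  have hs2 : (M.R (s ^ 2)).trace = 0 := by rw [hs, ← pow_mul]; exact M.trace_y_pow (by norm_num)
  have e1 : (M.R (s * v)).trace = 1 := hsv s K.s_mem hc hso
  have e2 : (M.R (s ^ 2 * v)).trace = 1 := hsv _ (pow_mem K.s_mem 2) ((show Commute s v from hc).pow_left 2)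
    (by rw [orderOf_pow' _ (by norm_num), hso]; norm_num)
  have hprim := Complex.isPrimitiveRoot_exp 3 (by norm_num)
  set ζ : ℂˣ := ((Complex.exp_ne_zero (2 * Real.pi * Complex.I / (3 : ℕ))).isUnit).unit
  have hζ : IsPrimitiveRoot (ζ : ℂ) 3 := hprim
  have hζ3 : ζ ^ orderOf s = 1 := by
    rw [hso]; ext; rw [Units.val_pow_eq_pow_val]; exact hζ.pow_eq_one
  have hgeo : (1 : ℂ) + ζ + (ζ : ℂ) ^ 2 = 0 := by
    have := hζ.geom_sum_eq_zero (by norm_num)
    simpa [Finset.sum_range_succ] using this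
  obtain ⟨m, hm⟩ := LThreeThree.SimpleOrder.twist_sum hA s V hcV hζ3
  simp only [hso, hV, Finset.sum_range_succ, Finset.sum_range_zero, hVsum, zero_add, pow_zero,
    pow_one, one_mul, OneMemClass.coe_one, mul_one, h1, hv2, hs1, hs2, e1, e2] at hm
  have : ((3 : ℕ) : ℂ) = ((6 * m : ℕ) : ℂ) := by
    push_cast at hm ⊢
    linear_combination hm - hgeo
  have : 3 = 6 * m := by exact_mod_cast this
  omega

theorem exists_third (M : Rep K) : ∃ e : G, K.Third e := by
  classical
  haveI : Fact (Nat.Prime 3) := ⟨Nat.prime_three⟩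
  haveI : Fact (Nat.Prime 2) := ⟨Nat.prime_two⟩
  haveI := K.normal
  set u := K.F.y ^ 3 with hu
  set s := K.F.y ^ 2 with hs
  set C := Subgroup.centralizer ({u} : Set G) with hCdef
  set D : Subgroup G := K.T ⊓ C with hDdef
  have hD : Nat.card D = 24 := by
    have h1 := Subgroup.card_mul_index (K.T.subgroupOf C)
    rw [← Subgroup.inf_subgroupOf_right, Nat.card_congr (Subgroup.subgroupOfEquivOfLe
      (show K.T ⊓ C ≤ C from inf_le_right)).toEquiv] at h1
    rw [Subgroup.inf_subgroupOf_right, cent_u M] at h1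
    have h2 : (K.T.subgroupOf C).index ∣ 2 := K.index_T ▸ Subgroup.relIndex_dvd_index_of_normal K.T C
    rcases (Nat.dvd_prime Nat.prime_two).1 h2 with e | e
    · exfalso
      exact K.u_not ((Subgroup.subgroupOf_eq_top.1 (Subgroup.index_eq_one.1 e))
        (Subgroup.mem_centralizer_singleton_iff.2 rfl))
    · rw [e] at h1
      show Nat.card ↥(K.T ⊓ C) = 24
      omega
  have hsD : s ∈ D := ⟨K.s_mem, Subgroup.mem_centralizer_singleton_iff.2
    ((Commute.refl K.F.y).pow_pow 2 3).eq⟩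
  have hinv : ∀ d : D, d * d = 1 → d ≠ 1 → s * (d : G) ≠ (d : G) * s := by
    intro d hd hd1
    exact no_commuting M d.2.1 (orderOf_eq_prime (by rw [pow_two]; exact congrArg Subtype.val hd)
      fun e => hd1 (Subtype.ext e))
  let s' : D := ⟨s, hsD⟩
  have hs' : orderOf s' = 3 := by rw [Subgroup.orderOf_mk]; exact K.orderOf_s
  have hfac : (Nat.card D).factorization 3 = 1 := by
    rw [hD, show (24 : ℕ) = 3 ^ 1 * 8 by norm_num, Nat.factorization_mul (by norm_num) (by norm_num),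
      Nat.Prime.factorization_pow Nat.prime_three]
    simp [Nat.factorization_eq_zero_of_not_dvd (show ¬ 3 ∣ 8 by norm_num)]
  let S0 : Sylow 3 D := Sylow.ofCard (Subgroup.zpowers s') (by rw [Nat.card_zpowers, hs', hfac, pow_one])
  have hS0 : (S0 : Subgroup D) = Subgroup.zpowers s' := rfl
  have hinv_of : ∀ d : D, d ≠ 1 → (∃ k, d ^ 2 ^ k = 1) → d * s' ≠ s' * d := by
    rintro d hd1 ⟨k, hk⟩ hc
    obtain ⟨j, -, hj⟩ := (Nat.dvd_prime_pow Nat.prime_two).1 (orderOf_dvd_of_pow_eq_one hk)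
    rcases j with _ | j
    · rw [pow_zero, orderOf_eq_one_iff] at hj; exact hd1 hj
    refine hinv (d ^ 2 ^ j) ?_ ?_ ?_
    · rw [← pow_add, ← two_mul, ← pow_succ', ← hj, pow_orderOf_eq_one]
    · intro e
      have := Nat.le_of_dvd (by positivity) (orderOf_dvd_of_pow_eq_one e)
      rw [hj] at this
      exact absurd this (not_le.2 (Nat.pow_lt_pow_right (by norm_num) (Nat.lt_succ_self j)))
    · exact congrArg Subtype.val ((show Commute d s' from hc).pow_left (2 ^ j)).eq.symm
  have hn : Nat.card (Sylow 3 D) = 4 := by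
    have h1 : Nat.card (Sylow 3 D) ∣ 8 := by
      have := S0.card_dvd_index
      have h2 := Subgroup.card_mul_index (S0 : Subgroup D)
      rw [hS0, Nat.card_zpowers, hs', hD] at h2
      rw [hS0, show (Subgroup.zpowers s').index = 8 by omega] at this
      exact this
    have h2 := card_sylow_modEq_one 3 D
    have h3 := Nat.le_of_dvd (by norm_num) h1
    by_contra h4
    have hn1 : Nat.card (Sylow 3 D) = 1 := by
      unfold Nat.ModEq at h2
      generalize Nat.card (Sylow 3 D) = n at *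
      interval_cases n <;> omega
    haveI := (Nat.card_eq_one_iff_unique.1 hn1).1
    have hnorm : (S0 : Subgroup D).Normal := Sylow.normal_of_subsingleton S0
    obtain ⟨Q⟩ : Nonempty (Sylow 2 D) := inferInstance
    have hQ : Nat.card (Q : Subgroup D) = 8 := by
      rw [Q.card_eq_multiplicity, hD, show (24 : ℕ) = 2 ^ 3 * 3 by norm_num,
        Nat.factorization_mul (by norm_num) (by norm_num), Nat.Prime.factorization_pow Nat.prime_two]
      simp [Nat.factorization_eq_zero_of_not_dvd (show ¬ 2 ∣ 3 by norm_num)]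
    haveI := Fintype.ofFinite (Q : Subgroup D)
    obtain ⟨a, b, hab, ha1, hb1⟩ : ∃ a b : (Q : Subgroup D), a ≠ b ∧ a ≠ 1 ∧ b ≠ 1 := by
      obtain ⟨a, ha, b, hb, hab⟩ := Finset.one_lt_card.1 (show 1 < (Finset.univ.erase (1 : (Q : Subgroup D))).card by
        rw [Finset.card_erase_of_mem (Finset.mem_univ _), Finset.card_univ, ← Nat.card_eq_fintype_card, hQ]
        norm_num)
      exact ⟨a, b, hab, Finset.ne_of_mem_erase ha, Finset.ne_of_mem_erase hb⟩
    have hnc : ∀ d : (Q : Subgroup D), d ≠ 1 → (d : D) * s' ≠ s' * (d : D) := fun d hd => by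
      obtain ⟨k, hk⟩ := Q.2 d
      exact hinv_of d (fun e => hd (Subtype.ext e)) ⟨k, congrArg Subtype.val hk⟩
    have hact : ∀ d : (Q : Subgroup D), d ≠ 1 → (d : D) * s' * (d : D)⁻¹ = s'⁻¹ := by
      intro d hd
      have hmem : (d : D) * s' * (d : D)⁻¹ ∈ Subgroup.zpowers s' :=
        hS0 ▸ hnorm.conj_mem s' (hS0.symm ▸ Subgroup.mem_zpowers s') d
      obtain ⟨j, hj, hj'⟩ : ∃ j < 3, s' ^ j = (d : D) * s' * (d : D)⁻¹ := by
        obtain ⟨j, hj⟩ := (mem_powers_iff_mem_zpowers (x := s')).2 hmem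
        exact ⟨j % 3, Nat.mod_lt _ (by norm_num), by rw [← hj, ← hs', pow_mod_orderOf]⟩
      interval_cases j
      · exfalso
        rw [pow_zero, eq_comm, conj_eq_one_iff] at hj'
        rw [hj', orderOf_one] at hs'; norm_num at hs'
      · exact absurd (mul_inv_eq_iff_eq_mul.1 (by rw [← hj', pow_one])) (hnc d hd)
      · rw [← hj', eq_inv_iff_mul_eq_one, ← pow_succ, show 2 + 1 = orderOf s' by rw [hs'], pow_orderOf_eq_one]
    refine hnc (a⁻¹ * b) (fun e => hab (inv_mul_eq_one.1 e)) ?_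
    have e1 := hact a ha1
    have e2 := hact b hb1
    rw [Subgroup.coe_mul, Subgroup.coe_inv, ← mul_inv_eq_iff_eq_mul]
    calc (a : D)⁻¹ * b * s' * ((a : D)⁻¹ * b)⁻¹ = (a : D)⁻¹ * (b * s' * (b : D)⁻¹) * a := by group
      _ = (a : D)⁻¹ * ((a : D) * s' * (a : D)⁻¹) * a := by rw [e2, e1]
      _ = s' := by group
  let φ := MulAction.toPermHom D (Sylow 3 D)
  have hker : φ.ker = ⊥ := by
    have hle : φ.ker ≤ Subgroup.normalizer (S0 : Set D) := by
      intro d hd
      rw [← Sylow.smul_eq_iff_mem_normalizer]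
      exact congrFun (congrArg DFunLike.coe (show φ d = 1 from hd)) S0
    have hNc : Nat.card (Subgroup.normalizer (S0 : Set D)) = 6 := by
      have h1 := Subgroup.card_mul_index (Subgroup.normalizer (S0 : Set D))
      rw [← Sylow.card_eq_index_normalizer, hn, hD] at h1
      omega
    have hk6 : Nat.card φ.ker ∣ 6 := hNc ▸ Subgroup.card_dvd_of_le hle
    by_contra hb
    rcases (show 3 ∣ Nat.card φ.ker ∨ Nat.card φ.ker = 2 from by
      have h0 : Nat.card φ.ker ≠ 1 := fun e => hb (Subgroup.card_eq_one.1 e)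
      have := (show ∀ n ∈ Nat.divisors 6, n ≠ 1 → 3 ∣ n ∨ n = 2 by decide) _
        (Nat.mem_divisors.2 ⟨hk6, by norm_num⟩) h0
      exact this) with h3 | h2
    · obtain ⟨z, hz⟩ := exists_prime_orderOf_dvd_card' (G := φ.ker) 3 h3
      have hall : ∀ P : Sylow 3 D, (P : Subgroup D) = Subgroup.zpowers (z : D) := by
        intro P
        have hzP : (z : D) ∈ Subgroup.normalizer (P : Set D) :=
          Sylow.smul_eq_iff_mem_normalizer.1 (congrFun (congrArg DFunLike.coe (show φ z = 1 from z.2)) P)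
        have hp : IsPGroup 3 (Subgroup.zpowers (z : D)) := IsPGroup.of_card (n := 1)
          (by rw [Nat.card_zpowers, Subgroup.orderOf_coe, hz, pow_one])
        have hle : Subgroup.zpowers (z : D) ≤ (P : Subgroup D) := by
          have := hp.inf_normalizer_sylow P
          rw [inf_eq_left.2 (Subgroup.zpowers_le.2 hzP)] at this
          exact this.le.trans inf_le_right
        refine (Subgroup.eq_of_le_of_card_ge hle ?_).symm
        rw [Nat.card_zpowers, Subgroup.orderOf_coe, hz, P.card_eq_multiplicity, hfac, pow_one]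
      have : Subsingleton (Sylow 3 D) := ⟨fun P Q => Sylow.ext ((hall P).trans (hall Q).symm)⟩
      have := Finite.card_le_one_iff_subsingleton.2 this
      omega
    · obtain ⟨z, hz⟩ := exists_prime_orderOf_dvd_card' (G := φ.ker) 2 (by rw [h2])
      have hz2 : (z : D) * z = 1 := by
        rw [← pow_two, ← hz, ← Subgroup.orderOf_coe, pow_orderOf_eq_one]
      have hz1 : (z : D) ≠ 1 := fun e => by
        rw [← Subgroup.orderOf_coe, e, orderOf_one] at hz; norm_num at hz
      refine hinv z hz2 hz1 ?_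
      have hc : s' * (z : D) * s'⁻¹ ∈ φ.ker := (MonoidHom.normal_ker φ).conj_mem _ z.2 s'
      haveI := Fintype.ofFinite φ.ker
      by_cases e : s' * (z : D) * s'⁻¹ = z
      · exact congrArg Subtype.val (mul_inv_eq_iff_eq_mul.1 e)
      · exfalso
        have h3' : ({1, z, ⟨_, hc⟩} : Finset φ.ker).card = 3 := by
          rw [Finset.card_insert_of_notMem, Finset.card_pair (fun h => e (congrArg Subtype.val h).symm)]
          simp only [Finset.mem_insert, Finset.mem_singleton, not_or]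
          exact ⟨fun h => hz1 (congrArg Subtype.val h).symm,
            fun h => hz1 (conj_eq_one_iff.1 (congrArg Subtype.val h).symm)⟩
        have := Finset.card_le_univ ({1, z, ⟨_, hc⟩} : Finset φ.ker)
        rw [h3', ← Nat.card_eq_fintype_card, h2] at this
        omega
  let e4 : Sylow 3 D ≃ Fin 4 := Finite.equivFinOfCardEq hn
  let ψ : D →* Equiv.Perm (Fin 4) := e4.permCongrHom.toMonoidHom.comp φ
  have hψi : Function.Injective ψ := e4.permCongrHom.injective.comp ((MonoidHom.ker_eq_bot_iff φ).1 hker)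
  have hψs : Function.Surjective ψ := by
    refine ((Nat.bijective_iff_injective_and_card _).2 ⟨hψi, ?_⟩).2
    rw [hD, Nat.card_perm, Nat.card_eq_fintype_card, Fintype.card_fin]
    rfl
  have hσ3 : ψ s' * ψ s' * ψ s' = 1 := by
    rw [← map_mul, ← map_mul, ← pow_two, ← pow_succ, show 2 + 1 = orderOf s' by rw [hs'],
      pow_orderOf_eq_one, map_one]
  have hσ1 : ψ s' ≠ 1 := fun e => by
    rw [← map_one ψ] at e
    rw [hψi e, orderOf_one] at hs'; norm_num at hs'
  obtain ⟨τ, π, h1, h2, h3, h4, h5⟩ := perm_four _ hσ3 hσ1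
  obtain ⟨e, rfl⟩ := hψs τ
  obtain ⟨g, rfl⟩ := hψs π
  simp only [← map_inv, ← map_mul] at h1 h3 h4 h5
  rw [← map_one ψ] at h1
  refine ⟨e, e.2.1, congrArg Subtype.val (hψi h1), fun h => h2 (by
    rw [show e = 1 from Subtype.ext h, map_one]), ?_, congrArg Subtype.val (hψi h3), ?_,
    isConj_iff.2 ⟨g, congrArg Subtype.val (hψi h5)⟩⟩
  · exact Subgroup.mem_centralizer_singleton_iff.1 e.2.2
  · exact fun h => h4 (congrArg ψ (Subtype.ext h))

end Ctx

end CfsgLib.Char.GTwoTwo
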