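import Cfsg.Agent.Lib.Char.GTwoTwo.Tests
import Cfsg.Agent.Lib.Char.LThreeThree.SimpleChars
import Cfsg.Agent.Lib.BSW.CharTools

/-!
# The principal block at seven of a simple group of order 6048
-/

set_option autoImplicit false
set_option linter.all false

open Cfsg CfsgLib.Perm.PrimeBlock CfsgLib.Block Finset
open CfsgLib.Char.MEleven.Order
open scoped ComplexConjugate

namespace CfsgLib.Char.GTwoTwo

universe u

variable {G : Type u} [Group G] [Finite G]

/-- What the block gives. -/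
structure Blk (G : Type u) [Group G] : Type u where
  a : IrrCharacter G
  b : IrrCharacter G
  Y : Finset (IrrCharacter G)
  a_deg : dg a = 6
  b_deg : dg b = 27
  Y_card : Y.card = 2
  Y_deg : ∀ θ ∈ Y, dg θ = 32
  a_uniq : ∀ ψ : IrrCharacter G, dg ψ = 6 → ψ = a
  b_uniq : ∀ ψ : IrrCharacter G, dg ψ = 27 → ψ = b
  rel : ∀ θ ∈ Y, ∀ g : G, ¬ 7 ∣ orderOf g → (θ : G → ℂ) g = (a : G → ℂ) g + (b : G → ℂ) g - 1
  a_seven : ∀ g : G, orderOf g = 7 → (a : G → ℂ) g = -1
  b_seven : ∀ g : G, orderOf g = 7 → (b : G → ℂ) g = -1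
  Y_seven : ∀ g : G, orderOf g = 7 → ∑ θ ∈ Y, (θ : G → ℂ) g = 1
  outside : ∀ g : G, orderOf g = 7 → ∀ ψ : IrrCharacter G, ψ ≠ oneChar G → ψ ≠ a → ψ ≠ b → ψ ∉ Y →
    (ψ : G → ℂ) g = 0
  cent7 : ∀ g : G, orderOf g = 7 → Nat.card (Subgroup.centralizer ({g} : Set G)) = 7
  range : ∀ g : G, g ≠ 1 → ∃ k : ℤ, (a : G → ℂ) g = k ∧ -3 ≤ k ∧ k ≤ 2
  invol : ∀ g : G, orderOf g = 2 → (a : G → ℂ) g = -2 ∧ (b : G → ℂ) g = 3
  six : ∀ g : G, 6 ∣ orderOf g → (a : G → ℂ) g = 1

theorem kill_eighteen : ∀ v ∈ Finset.Icc (-7 : ℤ) 7, ∀ w ∈ Finset.Icc (-26 : ℤ) 26,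
    v % 4 = 0 → (w - 27) % 4 = 0 → 216 + 27 * (v * v) - 8 * (w * w) + 12 * ((w - v - 1) * (w - v - 1)) ≠ 0 := by
  decide +kernel

theorem invol_value : ∀ v ∈ Finset.Icc (-5 : ℤ) 5, (v - 6) % 4 = 0 →
    54 - 9 * (v * v) - 2 * ((1 - v) * (1 - v)) = 0 → v = -2 := by
  decide +kernel

theorem range_two : ∀ v ∈ Finset.Icc (-6 : ℤ) 6,
    0 ≤ 54 - 9 * (v * v) - 2 * ((1 - v) * (1 - v)) → -3 ≤ v ∧ v ≤ 2 := by
  decide +kernel

theorem range_three : ∀ v ∈ Finset.Icc (-6 : ℤ) 6,
    0 ≤ 96 - 16 * (v * v) + 3 * ((v - 1) * (v - 1)) → -3 ≤ v ∧ v ≤ 2 := by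
  decide +kernel

/-- A value is an integer once every twist of the character takes the same value. -/
theorem int_of_twists (χ : IrrCharacter G) (g : G)
    (h : ∀ ψ : IrrCharacter G, dg ψ = dg χ → (ψ : G → ℂ) g = (χ : G → ℂ) g) :
    ∃ z : ℤ, (χ : G → ℂ) g = z := by
  haveI := Fintype.ofFinite G
  refine CfsgLib.BSW.exists_int_value χ fun m hm => ?_
  have := h ⟨_, isIrrCharacter_powMap hm.symm χ⟩ (by
    show charDegree (fun g => (χ : G → ℂ) (g ^ m)) = dg χ
    simp [dg, charDegree])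
  exact this

theorem natAbs_le_deg (χ : IrrCharacter G) {g : G} {z : ℤ} (h : (χ : G → ℂ) g = z) :
    z.natAbs ≤ dg χ := by
  obtain ⟨n, ρ, hρ⟩ := CfsgLib.Char.isCharacter_irr χ
  obtain ⟨b, μ, h1, -, h3⟩ := CfsgLib.Char.exists_eigen_data ρ g
  have e := h3 1
  have e0 := h3 0
  simp only [pow_one] at e
  simp only [pow_zero, Finset.sum_const, Finset.card_univ, Fintype.card_fin, nsmul_eq_mul, mul_one] at e0
  rw [hρ, h] at e
  rw [hρ, val_one] at e0
  have hd : dg χ = Module.finrank ℂ (Fin n → ℂ) := by exact_mod_cast e0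
  have hb : ‖(z : ℂ)‖ ≤ ∑ i, ‖μ i‖ := e ▸ norm_sum_le _ _
  rw [Finset.sum_congr rfl (fun i _ => Complex.norm_eq_one_of_pow_eq_one (h1 i) (orderOf_pos g).ne'),
    Finset.sum_const, Finset.card_univ, Fintype.card_fin, nsmul_eq_mul, mul_one, ← hd,
    Complex.norm_intCast] at hb
  have h' : |z| ≤ (dg χ : ℤ) := by exact_mod_cast hb
  obtain ⟨h4, h5⟩ := abs_le.1 h'
  omega

theorem value_inv_int (χ : IrrCharacter G) {g : G} {z : ℤ} (h : (χ : G → ℂ) g = z) :
    (χ : G → ℂ) g⁻¹ = z := by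
  obtain ⟨n, ρ, hρ⟩ := CfsgLib.Char.isCharacter_irr χ
  rw [← hρ, CfsgLib.Char.char_inv, hρ, h, map_intCast]

/-- A character of degree three with an odd integer value: the value is `1` or `-1`, or the element
has square one. -/
theorem sq_one_or (hG : ¬ IsMulCommutative G) [IsSimpleGroup G] (χ : IrrCharacter G)
    (hne : χ ≠ oneChar G) (hd : dg χ = 3) {g : G} {z : ℤ} (h : (χ : G → ℂ) g = z) (hodd : z % 2 = 1) :
    z = 1 ∨ z = -1 ∨ g * g = 1 := by
  have hb := natAbs_le_deg χ h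
  rw [hd] at hb
  rcases (show z = 1 ∨ z = -1 ∨ z = 3 ∨ z = -3 by omega) with e | e | e | e
  · exact Or.inl e
  · exact Or.inr (Or.inl e)
  · refine Or.inr (Or.inr ?_)
    have := eq_one_of_value χ (fun e => hne (Subtype.ext e)) (y := g)
      (by rw [h, val_one, hd, e]; norm_num)
    rw [this, one_mul]
  · refine Or.inr (Or.inr (eq_one_of_value χ (fun e => hne (Subtype.ext e)) ?_))
    obtain ⟨n, ρ, hρ⟩ := CfsgLib.Char.isCharacter_irr χ
    obtain ⟨b, μ, h1, -, h3⟩ := CfsgLib.Char.exists_eigen_data ρ g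
    have e0 := h3 0
    simp only [pow_zero, Finset.sum_const, Finset.card_univ, Fintype.card_fin, nsmul_eq_mul, mul_one] at e0
    rw [hρ, val_one, hd] at e0
    have e1 := h3 1
    simp only [pow_one] at e1
    rw [hρ, h, e] at e1
    have hre := congrArg Complex.re e1
    rw [Complex.re_sum] at hre
    have hle : ∀ i, -1 ≤ (μ i).re := fun i => by
      have := abs_le.1 ((Complex.abs_re_le_norm (μ i)).trans
        (Complex.norm_eq_one_of_pow_eq_one (h1 i) (orderOf_pos g).ne').le)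
      exact this.1
    have hall : ∀ i, μ i = -1 := by
      intro i
      have hz : ∑ i, ((μ i).re + 1) = 0 := by
        rw [Finset.sum_add_distrib, ← hre, Finset.sum_const, Finset.card_univ, Fintype.card_fin,
          nsmul_eq_mul, mul_one]
        have : ((Module.finrank ℂ (Fin n → ℂ) : ℕ) : ℝ) = 3 := by
          have : ((Module.finrank ℂ (Fin n → ℂ) : ℕ) : ℂ) = ((3 : ℕ) : ℂ) := by simpa using e0.symm
          exact_mod_cast this
        rw [this]
        norm_num
      have hi := (Finset.sum_eq_zero_iff_of_nonneg fun j _ => by linarith [hle j]).1 hz i (Finset.mem_univ i)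
      have hn := Complex.norm_eq_one_of_pow_eq_one (h1 i) (orderOf_pos g).ne'
      have hsq : Complex.normSq (μ i) = 1 := by rw [Complex.normSq_eq_norm_sq, hn]; norm_num
      rw [Complex.normSq_apply] at hsq
      have hr : (μ i).re = -1 := by linarith
      rw [hr] at hsq
      have him : (μ i).im = 0 := by nlinarith
      exact Complex.ext (by simpa using hr) (by simpa using him)
    rw [show g * g = g ^ 2 from (pow_two g).symm, ← hρ, h3 2, hρ, val_one, hd, e0,
      Finset.sum_congr rfl (fun i _ => by rw [hall i]; norm_num : ∀ i ∈ Finset.univ, μ i ^ 2 = 1),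
      Finset.sum_const, Finset.card_univ, Fintype.card_fin, nsmul_eq_mul, mul_one]

variable [IsSimpleGroup G]

set_option maxHeartbeats 1600000 in
theorem exists_blk (h : Nat.card G = 6048) (hG : ¬ IsMulCommutative G) : Nonempty (Blk G) := by
  classical
  haveI : Fact (Nat.Prime 7) := ⟨by norm_num⟩
  haveI : Fact (Nat.Prime 2) := ⟨Nat.prime_two⟩
  haveI : Fact (Nat.Prime 3) := ⟨Nat.prime_three⟩
  haveI := Fintype.ofFinite G
  haveI := Fintype.ofFinite (IrrCharacter G)
  obtain ⟨P, n, e, c, hmem, hP, hn, -, hC, hN, ⟨S⟩⟩ :=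
    data_of_refutedTwo 6048 7 864 78 32 [(288, 3)] h hG (by norm_num) (by norm_num) (by norm_num)
      (by norm_num) (by norm_num) ⟨5, rfl⟩ (by norm_num) block_skip
  simp only [List.mem_singleton, Prod.mk.injEq] at hmem
  obtain ⟨rfl, rfl⟩ := hmem
  obtain rfl : c = 1 := by omega
  rw [mul_one] at hC hN
  have hg : Nat.card G = 864 * 7 := by rw [h]
  have hB : Nat.card G ≤ 78 * 78 := by rw [h]; norm_num
  have hcent : ∀ g : G, orderOf g = 7 → Nat.card (Subgroup.centralizer ({g} : Set G)) = 7 := fun g hg => by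
    rw [centralizer_of_order hP hg, hC]
  have hsing : ∀ g : G, 7 ∣ orderOf g → orderOf g = 7 := by
    intro g hd
    obtain ⟨k, hk⟩ := hd
    have hk0 : k ≠ 0 := fun e => by rw [e, mul_zero] at hk; exact (orderOf_pos g).ne' hk
    have ho : orderOf (g ^ k) = 7 := by
      rw [orderOf_pow' g hk0, hk, Nat.gcd_mul_left_left, Nat.mul_div_cancel _ (Nat.pos_of_ne_zero hk0)]
    have hmem : g ∈ Subgroup.centralizer ({g ^ k} : Set G) :=
      Subgroup.mem_centralizer_singleton_iff.2 (Commute.self_pow g k).eq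
    have h7 := Subgroup.orderOf_dvd_natCard _ hmem
    rw [hcent _ ho, hk] at h7
    have := Nat.le_of_dvd (by norm_num) h7
    omega
  obtain ⟨θ, hθ⟩ : S.Y.Nonempty := Finset.card_pos.1 (by rw [S.card_Y]; norm_num)
  obtain ⟨X', hperm, hm⟩ := exists_combo (fun χ => sd S χ) _ S.X.toList
    (fun χ hχ => S.mem_cands_one hG hg hB (Finset.mem_toList.1 hχ))
  have hX2 : S.X.card = 2 := by have := S.card_X; omega
  rw [Finset.length_toList, hX2] at hm
  have hsum : (X'.map fun χ => sd S χ).sum = ∑ χ ∈ S.X, sd S χ := by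
    rw [(hperm.map _).sum_eq, Finset.sum_map_toList]
  have hrel := rel_one S hθ
  have hdl : X'.map (fun χ => sd S χ) ∈ degLists 6048 864 7 3 78 := by
    have hh := S.okAbs_Y hG hg (by norm_num) (by norm_num) hθ
    rw [h] at hh hm
    simp only [degLists, List.mem_filter, show (3 : ℕ) - 1 = 2 from rfl, hm, true_and,
      Bool.and_eq_true, beq_iff_eq, hsum, ← hrel]
    exact hh
  rw [block_lists] at hdl
  have hlen : X'.length = 2 := by rw [hperm.length_eq, Finset.length_toList, hX2]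
  obtain ⟨a, b, rfl⟩ : ∃ a b, X' = [a, b] := by
    match X', hlen with
    | [a, b], _ => exact ⟨a, b, rfl⟩
  have hnd : [a, b].Nodup := hperm.nodup_iff.2 S.X.nodup_toList
  have hab : a ≠ b := by simpa using hnd
  have hXeq : S.X = {a, b} := by
    rw [← Finset.toList_toFinset S.X, ← List.toFinset_eq_of_perm _ _ hperm]
    simp
  simp only [List.map_cons, List.map_nil, List.mem_cons, List.not_mem_nil, or_false, List.cons.injEq,
    and_true] at hdl
  have haX : a ∈ S.X := by rw [hXeq]; simp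
  have hbX : b ∈ S.X := by rw [hXeq]; simp
  rw [hXeq, Finset.sum_pair hab] at hrel
  have ha1 : a ≠ oneChar G := fun e => S.one_notMem_X (e ▸ haX)
  have hb1 : b ≠ oneChar G := fun e => S.one_notMem_X (e ▸ hbX)
  have hY1 : ∀ ψ ∈ S.Y, ψ ≠ oneChar G := fun ψ hψ e => S.one_notMem_Y (e ▸ hψ)
  have h1o : ¬ 7 ∣ orderOf (1 : G) := by rw [orderOf_one]; norm_num
  have hconjP : ∀ g : G, orderOf g = 7 → ∃ c : G, c * g * c⁻¹ ∈ (P : Subgroup G) ∧ c * g * c⁻¹ ≠ 1 := by
    intro g hg
    obtain ⟨Q, hQ⟩ := (IsPGroup.of_card (p := 7) (n := 1) (G := Subgroup.zpowers g)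
      (by rw [Nat.card_zpowers, hg, pow_one])).exists_le_sylow
    obtain ⟨c, hc⟩ := MulAction.exists_smul_eq G Q P
    refine ⟨c, ?_, fun e => ?_⟩
    · rw [← hc, Sylow.coe_subgroup_smul]
      exact ⟨_, hQ (Subgroup.mem_zpowers g), rfl⟩
    · rw [conj_eq_one_iff.1 e, orderOf_one] at hg; norm_num at hg
  have hcls : ∀ (ψ : IrrCharacter G) (c g : G), (ψ : G → ℂ) (c * g * c⁻¹) = (ψ : G → ℂ) g :=
    fun ψ c g => (CfsgLib.Char.isClassFunction_irr ψ g c)
  have hXv : ∀ χ ∈ S.X, ∀ g : G, orderOf g = 7 → (χ : G → ℂ) g = (S.εX χ : ℂ) := by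
    intro χ hχ g hg
    obtain ⟨c, hc, hc1⟩ := hconjP g hg
    have hv := S.value_X χ hχ _ hc hc1 1 (one_mem _) h1o
    rwa [mul_one, hcls] at hv
  have hYv : ∀ g : G, orderOf g = 7 → ∑ ψ ∈ S.Y, (ψ : G → ℂ) g = -(S.ε : ℂ) := by
    intro g hg
    obtain ⟨c, hc, hc1⟩ := hconjP g hg
    have hv := S.value_Y _ hc hc1 1 (one_mem _) h1o
    simp only [mul_one, hcls] at hv
    exact hv
  have hout : ∀ g : G, orderOf g = 7 → ∀ ψ : IrrCharacter G, ψ ≠ oneChar G → ψ ≠ a → ψ ≠ b → ψ ∉ S.Y →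
      (ψ : G → ℂ) g = 0 := by
    intro g hg ψ h1 h2 h3 h4
    obtain ⟨c, hc, hc1⟩ := hconjP g hg
    rw [← hcls ψ c g]
    exact S.outside hC ψ h1 (by rw [hXeq]; simp [h2, h3]) h4 _ hc hc1
  obtain ⟨x', hx'⟩ := exists_prime_orderOf_dvd_card' (G := (P : Subgroup G)) 7 (by rw [hP])
  obtain ⟨x, hx, hxo⟩ : ∃ x ∈ (P : Subgroup G), orderOf x = 7 :=
    ⟨x', x'.2, by rw [Subgroup.orderOf_coe, hx']⟩
  have hx1 : x ≠ 1 := fun e => by rw [e, orderOf_one] at hxo; norm_num at hxo
  have hdvd7 : ∀ ψ : IrrCharacter G, ψ ≠ oneChar G → ψ ≠ a → ψ ≠ b → ψ ∉ S.Y → 7 ∣ dg ψ := by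
    intro ψ h1 h2 h3 h4
    exact dvd_dg_of_zero hP ψ (S.outside hC ψ h1 (by rw [hXeq]; simp [h2, h3]) h4)
  have hprod : ∀ g : G, (CfsgLib.Char.classConst g g⁻¹ x : ℂ) *
      (Nat.card (Subgroup.centralizer ({g} : Set G)) : ℂ) *
      (Nat.card (Subgroup.centralizer ({g⁻¹} : Set G)) : ℂ) = (Nat.card G : ℂ) *
      (1 + (a : G → ℂ) g * (a : G → ℂ) g⁻¹ * (S.εX a : ℂ) / (dg a : ℂ) +
        (b : G → ℂ) g * (b : G → ℂ) g⁻¹ * (S.εX b : ℂ) / (dg b : ℂ) +
        ∑ ψ ∈ S.Y, (ψ : G → ℂ) g * (ψ : G → ℂ) g⁻¹ * conj ((ψ : G → ℂ) x) / (dg ψ : ℂ)) := by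
    intro g
    rw [class_mul]
    congr 1
    rw [← Finset.sum_subset (Finset.subset_univ (({oneChar G, a, b} : Finset (IrrCharacter G)) ∪ S.Y))
      (fun ψ _ hψ => by
        simp only [Finset.mem_union, Finset.mem_insert, Finset.mem_singleton, not_or] at hψ
        rw [hout x hxo ψ hψ.1.1 hψ.1.2.1 hψ.1.2.2 hψ.2, map_zero, mul_zero, zero_div]),
      Finset.sum_union (by
        rw [Finset.disjoint_left]
        intro ψ hψ hY
        simp only [Finset.mem_insert, Finset.mem_singleton] at hψ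
        rcases hψ with rfl | rfl | rfl
        · exact S.one_notMem_Y hY
        · exact Finset.disjoint_left.1 S.disjoint haX hY
        · exact Finset.disjoint_left.1 S.disjoint hbX hY),
      Finset.sum_insert (by simp [ha1.symm, hb1.symm]), Finset.sum_pair hab, dg_one,
      hXv a haX x hxo, hXv b hbX x hxo]
    simp only [map_intCast, show ∀ g : G, ((oneChar G : IrrCharacter G) : G → ℂ) g = 1 from fun _ => rfl,
      map_one, mul_one, Nat.cast_one, div_one]
    ring
  have hYsum : ∀ g : G, ¬ 7 ∣ orderOf g → ¬ 7 ∣ orderOf g⁻¹ →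
      ∑ ψ ∈ S.Y, (ψ : G → ℂ) g * (ψ : G → ℂ) g⁻¹ * conj ((ψ : G → ℂ) x) / (dg ψ : ℂ) =
        (θ : G → ℂ) g * (θ : G → ℂ) g⁻¹ / (S.D : ℂ) * -(S.ε : ℂ) := by
    intro g h1 h2
    rw [Finset.sum_congr rfl (g := fun ψ : IrrCharacter G =>
      (θ : G → ℂ) g * (θ : G → ℂ) g⁻¹ / (S.D : ℂ) * conj ((ψ : G → ℂ) x)) fun ψ hψ => by
      rw [S.regular_Y ψ hψ θ hθ g h1, S.regular_Y ψ hψ θ hθ g⁻¹ h2,
        show dg ψ = S.D from S.degree_Y ψ hψ]; ring,
      ← Finset.mul_sum, ← map_sum, hYv x hxo, map_neg, map_intCast]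
  -- an involution inverts no element of order seven
  have hzero : ∀ w : G, orderOf w = 2 → CfsgLib.Char.classConst w w x = 0 := by
    intro w hw
    rw [CfsgLib.Char.classConst, Nat.card_eq_zero]
    refine Or.inl ⟨fun ⟨⟨s, t⟩, hs, ht, hst⟩ => ?_⟩
    obtain ⟨-, -, hinv, ho⟩ := pair_inverts hw hs ht hst
    have hgen : Subgroup.zpowers x = (P : Subgroup G) := CfsgLib.Perm.Small.zpowers_eq_of_mem hP hx hx1
    have hmem : s ∈ Subgroup.normalizer ((P : Subgroup G) : Set G) := by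
      rw [Subgroup.mem_normalizer_iff_map_conj_eq, ← hgen, MonoidHom.map_zpowers]
      simp [MulAut.conj_apply, hinv]
    have h2 := Subgroup.orderOf_dvd_natCard _ hmem
    rw [hN, ho] at h2
    norm_num at h2
  obtain ⟨v, hv⟩ := exists_prime_orderOf_dvd_card' (G := G) 2 (by rw [h]; norm_num)
  have hvreg : ¬ 7 ∣ orderOf v := by rw [hv]; norm_num
  have hvinv : v⁻¹ = v := inv_eq_of_mul_eq_one_left (by rw [← pow_two, ← hv, pow_orderOf_eq_one])
  have heqv : ∀ w : G, orderOf w = 2 → (0 : ℂ) =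
      1 + (a : G → ℂ) w * (a : G → ℂ) w * (S.εX a : ℂ) / (dg a : ℂ) +
        (b : G → ℂ) w * (b : G → ℂ) w * (S.εX b : ℂ) / (dg b : ℂ) +
        (θ : G → ℂ) w * (θ : G → ℂ) w / (S.D : ℂ) * -(S.ε : ℂ) := by
    intro w hw
    have hwi : w⁻¹ = w := inv_eq_of_mul_eq_one_left (by rw [← pow_two, ← hw, pow_orderOf_eq_one])
    have hwr : ¬ 7 ∣ orderOf w := by rw [hw]; norm_num
    have hh := hprod w
    rw [hYsum w hwr (by rw [orderOf_inv]; exact hwr), hwi, hzero w hw, Nat.cast_zero, zero_mul,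
      zero_mul] at hh
    exact ((mul_eq_zero.1 hh.symm).resolve_left (Nat.cast_ne_zero.2 Nat.card_pos.ne')).symm
  obtain ⟨ra, hra, hra', hra4⟩ := value_invol hG a ha1 hv
  obtain ⟨rb, hrb, hrb', hrb4⟩ := value_invol hG b hb1 hv
  have heq := heqv v hv
  have hrelv := S.relation θ hθ v hvreg
  rw [hXeq, Finset.sum_pair hab, hra, hrb] at hrelv
  rw [hra, hrb] at heq
  rcases hdl with ⟨hsa, hsb⟩ | ⟨hsa, hsb⟩ | ⟨hsa, hsb⟩
  · -- degrees 8, 27, 18
    exfalso
    obtain ⟨hεa, hda⟩ : S.εX a = 1 ∧ dg a = 8 := by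
      simp only [sd] at hsa
      rcases S.sign_X a haX with e | e <;> rw [e] at hsa ⊢ <;> omega
    obtain ⟨hεb, hdb⟩ : S.εX b = -1 ∧ dg b = 27 := by
      simp only [sd] at hsb
      rcases S.sign_X b hbX with e | e <;> rw [e] at hsb ⊢ <;> omega
    rw [hsa, hsb] at hrel
    obtain ⟨hε, hD⟩ : S.ε = -1 ∧ S.D = 18 := by
      rcases S.sign with e | e <;> rw [e] at hrel ⊢ <;> omega
    rw [hda] at hra' hra4
    rw [hdb] at hrb' hrb4
    rw [hεa, hεb, hε] at hrelv
    push_cast at hrelv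
    rw [hεa, hεb, hε, hda, hdb, hD, show (θ : G → ℂ) v = -1 - (ra : ℂ) + rb by linear_combination -hrelv] at heq
    refine kill_eighteen ra (Finset.mem_Icc.2 (by omega)) rb (Finset.mem_Icc.2 (by omega)) (by omega)
      (by omega) ?_
    have : ((216 + 27 * (ra * ra) - 8 * (rb * rb) + 12 * ((rb - ra - 1) * (rb - ra - 1)) : ℤ) : ℂ) = 0 := by
      push_cast at heq ⊢
      linear_combination -216 * heq
    exact_mod_cast this
  · -- the true case
    obtain ⟨hεa, hda⟩ : S.εX a = -1 ∧ dg a = 6 := by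
      simp only [sd] at hsa
      rcases S.sign_X a haX with e | e <;> rw [e] at hsa ⊢ <;> omega
    obtain ⟨hεb, hdb⟩ : S.εX b = -1 ∧ dg b = 27 := by
      simp only [sd] at hsb
      rcases S.sign_X b hbX with e | e <;> rw [e] at hsb ⊢ <;> omega
    rw [hsa, hsb] at hrel
    obtain ⟨hε, hD⟩ : S.ε = -1 ∧ S.D = 32 := by
      rcases S.sign with e | e <;> rw [e] at hrel ⊢ <;> omega
    have hYd : ∀ ψ ∈ S.Y, dg ψ = 32 := fun ψ hψ => by
      rw [show dg ψ = S.D from S.degree_Y ψ hψ, hD]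
    have hua : ∀ ψ : IrrCharacter G, dg ψ = 6 → ψ = a := by
      intro ψ hψ
      by_contra hne
      have h1 : ψ ≠ oneChar G := fun e => by rw [e, dg_one] at hψ; norm_num at hψ
      have h2 : ψ ≠ b := fun e => by rw [e, hdb] at hψ; norm_num at hψ
      have h3 : ψ ∉ S.Y := fun e => by rw [hYd ψ e] at hψ; norm_num at hψ
      have := hdvd7 ψ h1 hne h2 h3
      rw [hψ] at this
      norm_num at this
    have hub : ∀ ψ : IrrCharacter G, dg ψ = 27 → ψ = b := by
      intro ψ hψ
      by_contra hne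
      have h1 : ψ ≠ oneChar G := fun e => by rw [e, dg_one] at hψ; norm_num at hψ
      have h2 : ψ ≠ a := fun e => by rw [e, hda] at hψ; norm_num at hψ
      have h3 : ψ ∉ S.Y := fun e => by rw [hYd ψ e] at hψ; norm_num at hψ
      have := hdvd7 ψ h1 h2 hne h3
      rw [hψ] at this
      norm_num at this
    have hrl : ∀ ψ ∈ S.Y, ∀ g : G, ¬ 7 ∣ orderOf g →
        (ψ : G → ℂ) g = (a : G → ℂ) g + (b : G → ℂ) g - 1 := by
      intro ψ hψ g hg
      have hh := S.relation ψ hψ g hg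
      rw [hε, hXeq, Finset.sum_pair hab, hεa, hεb] at hh
      push_cast at hh
      linear_combination -hh
    have hv2 : ∀ ψ ∈ S.Y, ∀ g : G, 2 ∣ orderOf g → (ψ : G → ℂ) g = 0 := fun ψ hψ g hg =>
      char_defect_zero_vanishes ψ (p := 2) (n := 5) (d := 32) (by rw [h]; norm_num)
        (by rw [h]; norm_num) (by rw [val_one, hYd ψ hψ]) (by norm_num) hg
    have hv3 : ∀ g : G, 3 ∣ orderOf g → (b : G → ℂ) g = 0 := fun g hg =>
      char_defect_zero_vanishes b (p := 3) (n := 3) (d := 27) (by rw [h]; norm_num)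
        (by rw [h]; norm_num) (by rw [val_one, hdb]) (by norm_num) hg
    refine ⟨⟨a, b, S.Y, hda, hdb, by rw [S.card_Y], hYd, hua, hub, hrl,
      fun g hg => by rw [hXv a haX g hg, hεa]; norm_num,
      fun g hg => by rw [hXv b hbX g hg, hεb]; norm_num,
      fun g hg => by rw [hYv g hg, hε]; norm_num, hout, hcent, ?_, ?_, ?_⟩⟩
    · intro g hg1
      obtain ⟨k, hk⟩ := int_of_twists a g fun ψ hψ => by rw [hua ψ (hψ.trans hda)]
      refine ⟨k, hk, ?_⟩
      by_cases h7 : 7 ∣ orderOf g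
      · have := hXv a haX g (hsing g h7)
        rw [hk, hεa] at this
        have : k = -1 := by exact_mod_cast this
        omega
      have hkI : k ∈ Finset.Icc (-6 : ℤ) 6 := by
        have := natAbs_le_deg a hk
        rw [hda] at this
        exact Finset.mem_Icc.2 (by omega)
      have h7' : ¬ 7 ∣ orderOf g⁻¹ := by rwa [orderOf_inv]
      have hh := hprod g
      rw [hYsum g h7 h7', value_inv_int a hk, hk, hεa, hεb, hε, hda, hdb, hD] at hh
      obtain ⟨q, hq, hqd⟩ := Nat.exists_prime_and_dvd (fun e => hg1 (orderOf_eq_one_iff.1 e))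
      have hq23 : q = 2 ∨ q = 3 := by
        have hq6 : q ∣ 2 ^ 5 * (3 ^ 3 * 7) := by
          have := hqd.trans (orderOf_dvd_natCard g)
          rwa [h] at this
        rcases (Nat.Prime.dvd_mul hq).1 hq6 with e | e
        · exact Or.inl ((Nat.prime_dvd_prime_iff_eq hq Nat.prime_two).1 (hq.dvd_of_dvd_pow e))
        rcases (Nat.Prime.dvd_mul hq).1 e with e | e
        · exact Or.inr ((Nat.prime_dvd_prime_iff_eq hq Nat.prime_three).1 (hq.dvd_of_dvd_pow e))
        · rw [(Nat.prime_dvd_prime_iff_eq hq (by norm_num)).1 e] at hqd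
          exact absurd hqd h7
      set cc := CfsgLib.Char.classConst g g⁻¹ x * Nat.card (Subgroup.centralizer ({g} : Set G)) *
        Nat.card (Subgroup.centralizer ({g⁻¹} : Set G)) with hcc
      rw [← Nat.cast_mul, ← Nat.cast_mul, ← hcc, h] at hh
      rcases hq23 with rfl | rfl
      · have e1 := hv2 θ hθ g hqd
        have e1' := hv2 θ hθ g⁻¹ (by rwa [orderOf_inv])
        have f1 := hrl θ hθ g h7
        have f2 := hrl θ hθ g⁻¹ h7'
        rw [e1, hk] at f1
        rw [e1', value_inv_int a hk] at f2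
        rw [e1, e1', show (b : G → ℂ) g = 1 - (k : ℂ) by linear_combination -f1,
          show (b : G → ℂ) g⁻¹ = 1 - (k : ℂ) by linear_combination -f2] at hh
        have : (cc : ℤ) = 112 * (54 - 9 * (k * k) - 2 * ((1 - k) * (1 - k))) := by
          have : (((cc : ℕ) : ℤ) : ℂ) = ((112 * (54 - 9 * (k * k) - 2 * ((1 - k) * (1 - k))) : ℤ) : ℂ) := by
            push_cast at hh ⊢
            linear_combination hh
          exact_mod_cast this
        exact range_two k hkI (by omega)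
      · have e1 := hv3 g hqd
        have e1' := hv3 g⁻¹ (by rwa [orderOf_inv])
        rw [e1, e1', hrl θ hθ g h7, hrl θ hθ g⁻¹ h7', e1, e1', hk, value_inv_int a hk] at hh
        have : (cc : ℤ) = 63 * (96 - 16 * (k * k) + 3 * ((k - 1) * (k - 1))) := by
          have : (((cc : ℕ) : ℤ) : ℂ) = ((63 * (96 - 16 * (k * k) + 3 * ((k - 1) * (k - 1))) : ℤ) : ℂ) := by
            push_cast at hh ⊢
            linear_combination hh
          exact_mod_cast this
        exact range_three k hkI (by omega)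
    · intro g hg
      have hgr : ¬ 7 ∣ orderOf g := by rw [hg]; norm_num
      obtain ⟨r, hr, hr', hr4⟩ := value_invol hG a ha1 hg
      rw [hda] at hr' hr4
      have e1 := hv2 θ hθ g (by rw [hg])
      have f1 := hrl θ hθ g hgr
      rw [e1, hr] at f1
      have eb : (b : G → ℂ) g = ((1 - r : ℤ) : ℂ) := by push_cast; linear_combination -f1
      have hh := heqv g hg
      rw [hr, eb, hεa, hεb, hε, hda, hdb, hD, e1] at hh
      obtain rfl : r = -2 := by
        refine invol_value r (Finset.mem_Icc.2 (by omega)) hr4 ?_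
        have : ((54 - 9 * (r * r) - 2 * ((1 - r) * (1 - r)) : ℤ) : ℂ) = 0 := by
          push_cast at hh ⊢
          linear_combination -54 * hh
        exact_mod_cast this
      exact ⟨by rw [hr]; norm_num, by rw [eb]; norm_num⟩
    · intro g hg
      have hgr : ¬ 7 ∣ orderOf g := fun e => by rw [hsing g e] at hg; norm_num at hg
      have f1 := hrl θ hθ g hgr
      rw [hv2 θ hθ g ((by norm_num : 2 ∣ 6).trans hg), hv3 g ((by norm_num : 3 ∣ 6).trans hg)] at f1
      linear_combination -f1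
  · -- degrees 6, 8, 3
    exfalso
    obtain ⟨hεa, hda⟩ : S.εX a = -1 ∧ dg a = 6 := by
      simp only [sd] at hsa
      rcases S.sign_X a haX with e | e <;> rw [e] at hsa ⊢ <;> omega
    obtain ⟨hεb, hdb⟩ : S.εX b = 1 ∧ dg b = 8 := by
      simp only [sd] at hsb
      rcases S.sign_X b hbX with e | e <;> rw [e] at hsb ⊢ <;> omega
    rw [hsa, hsb] at hrel
    obtain ⟨hε, hD⟩ : S.ε = 1 ∧ S.D = 3 := by
      rcases S.sign with e | e <;> rw [e] at hrel ⊢ <;> omega
    have hθd : dg θ = 3 := by rw [show dg θ = S.D from S.degree_Y θ hθ, hD]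
    have hint : ∀ g : G, ¬ 7 ∣ orderOf g → ∃ z : ℤ, (θ : G → ℂ) g = z := by
      intro g hg
      refine int_of_twists θ g fun ψ hψ => ?_
      rw [hθd] at hψ
      have hY : ψ ∈ S.Y := by
        by_contra hn
        have h1 : ψ ≠ oneChar G := fun e => by rw [e, dg_one] at hψ; norm_num at hψ
        have h2 : ψ ≠ a := fun e => by rw [e, hda] at hψ; norm_num at hψ
        have h3 : ψ ≠ b := fun e => by rw [e, hdb] at hψ; norm_num at hψ
        have := hdvd7 ψ h1 h2 h3 hn
        rw [hψ] at this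
        norm_num at this
      exact S.regular_Y ψ hY θ hθ g hg
    obtain ⟨W⟩ : Nonempty (Sylow 2 G) := inferInstance
    have hW : Nat.card (W : Subgroup G) = 32 := by
      rw [W.card_eq_multiplicity, h, show (6048 : ℕ) = 2 ^ 5 * 189 by norm_num,
        Nat.factorization_mul (by norm_num) (by norm_num), Nat.Prime.factorization_pow Nat.prime_two]
      simp [Nat.factorization_eq_zero_of_not_dvd (show ¬ 2 ∣ 189 by norm_num)]
    haveI := Fintype.ofFinite (W : Subgroup G)
    have hWr : ∀ w : (W : Subgroup G), ¬ 7 ∣ orderOf (w : G) := fun w e => by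
      have := e.trans (Subgroup.orderOf_dvd_natCard _ w.2)
      rw [hW] at this
      norm_num at this
    choose z hz using fun w : (W : Subgroup G) => hint (w : G) (hWr w)
    have hodd : ∀ w, z w % 2 = 1 := by
      suffices hs : ∀ (j : ℕ) (w : (W : Subgroup G)), w ^ (2 ^ j) = 1 → z w % 2 = 1 by
        intro w
        refine hs 5 w ?_
        rw [show (2 : ℕ) ^ 5 = Nat.card (W : Subgroup G) by rw [hW]; norm_num, pow_card_eq_one']
      intro j
      induction j with
      | zero =>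
        intro w hw
        rw [pow_zero, pow_one] at hw
        subst hw
        have := hz 1
        rw [OneMemClass.coe_one, val_one, hθd] at this
        have : ((3 : ℤ) : ℂ) = (z 1 : ℂ) := by simpa using this
        have : (3 : ℤ) = z 1 := by exact_mod_cast this
        omega
      | succ j ih =>
        intro w hw
        have h2 := ih (w ^ 2) (by rw [← pow_mul, ← pow_succ']; exact hw)
        have h3 := CfsgLib.BSW.value_pow_prime θ Nat.prime_two (hz w)
          (b := z (w ^ 2)) (by rw [← hz (w ^ 2)]; rfl)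
        push_cast at h3
        omega
    have hsq : ∀ w, z w * z w = if w = 1 then 9 else 1 := by
      intro w
      split_ifs with hw
      · subst hw
        have := hz 1
        rw [OneMemClass.coe_one, val_one, hθd] at this
        have : ((3 : ℤ) : ℂ) = (z 1 : ℂ) := by simpa using this
        have : (3 : ℤ) = z 1 := by exact_mod_cast this
        rw [← this]; norm_num
      · rcases sq_one_or hG θ (hY1 θ hθ) hθd (hz w) (hodd w) with e | e | e
        · rw [e]; norm_num
        · rw [e]; norm_num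
        · obtain ⟨r, hr, hr', hr4⟩ := value_invol hG θ (hY1 θ hθ)
            (orderOf_eq_prime (by rw [pow_two]; exact e) fun e' => hw (Subtype.ext e'))
          have : z w = r := by exact_mod_cast (hz w).symm.trans hr
          rw [hθd] at hr' hr4
          rw [this, show r = -1 by omega]; norm_num
    obtain ⟨m, hm'⟩ := LThreeThree.SimpleOrder.twist_sum
      (CfsgLib.Char.isCharacter_mul (CfsgLib.Char.isCharacter_irr θ) (CfsgLib.Char.isCharacter_irr θ))
      (1 : G) (W : Subgroup G) (by simp) (ζ := 1) (by simp)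
    have hval : ∀ w : (W : Subgroup G),
        ((θ : G → ℂ) * (θ : G → ℂ)) w = ((if w = 1 then 9 else 1 : ℤ) : ℂ) := by
      intro w
      rw [← hsq w, Pi.mul_apply, hz w]
      push_cast; ring
    simp [-Nat.card_eq_fintype_card, hW, hval] at hm'
    rw [Finset.sum_ite, Finset.filter_eq', if_pos (Finset.mem_univ _), Finset.sum_singleton,
      Finset.sum_const, Finset.filter_ne', Finset.card_erase_of_mem (Finset.mem_univ _),
      Finset.card_univ, ← Nat.card_eq_fintype_card, hW] at hm'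
    norm_num at hm'
    have : (40 : ℕ) = 32 * m := by exact_mod_cast hm'
    omega

end CfsgLib.Char.GTwoTwo
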