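import Mathlib

/-!
# Arithmetic in the real cubic field of seventh roots of unity
-/

set_option autoImplicit false
set_option linter.all false

namespace CfsgLib.Char.GTwoTwo.Cubic

/-- Coefficients with respect to `1`, `ψ₁`, `ψ₂`, where `ψ_m = ζ^m + ζ^(-m)`. -/
abbrev Tri := ℤ × ℤ × ℤ

def add (x y : Tri) : Tri := (x.1 + y.1, x.2.1 + y.2.1, x.2.2 + y.2.2)

def neg (x : Tri) : Tri := (-x.1, -x.2.1, -x.2.2)

def sub (x y : Tri) : Tri := add x (neg y)

def cst (n : ℤ) : Tri := (n, 0, 0)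

def smul (n : ℤ) (x : Tri) : Tri := (n * x.1, n * x.2.1, n * x.2.2)

def mul (x y : Tri) : Tri :=
  (x.1 * y.1 + 2 * (x.2.1 * y.2.1) - (x.2.1 * y.2.2 + x.2.2 * y.2.1) + x.2.2 * y.2.2,
    x.1 * y.2.1 + x.2.1 * y.1 - x.2.2 * y.2.2,
    x.1 * y.2.2 + x.2.2 * y.1 + x.2.1 * y.2.1 - (x.2.1 * y.2.2 + x.2.2 * y.2.1) - x.2.2 * y.2.2)

/-- The Galois automorphism. -/
def gal (x : Tri) : Tri := (x.1 - x.2.2, -x.2.2, x.2.1 - x.2.2)

def p1 : Tri := (0, 1, 0)
def p2 : Tri := (0, 0, 1)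
def p3 : Tri := (-1, -1, -1)

/-- A certificate of being non-zero: the norm is a non-zero integer. -/
def nz (x : Tri) : Bool :=
  let m := mul x (mul (gal x) (gal (gal x)))
  decide (m.1 ≠ 0) && decide (m.2.1 = 0) && decide (m.2.2 = 0)

/-- The diagonal of the even block, seven-fold, from the traces. -/
def dTri (t : ℤ × ℤ × ℤ) : Fin 3 → Tri
  | 0 => (-2 - t.2.2, t.1 - t.2.2, t.2.1 - t.2.2)
  | 1 => (-2 - t.1, t.2.1 - t.1, t.2.2 - t.1)
  | 2 => (-2 - t.2.1, t.2.2 - t.2.1, t.1 - t.2.1)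

/-- The off-diagonal entries `(i - 1, i)`. -/
def fTri (p : ℤ × ℤ × ℤ) : Fin 3 → Tri
  | 0 => (-p.2.2, p.1 - p.2.2, p.2.1 - p.2.2)
  | 1 => (-p.1, p.2.1 - p.1, p.2.2 - p.1)
  | 2 => (-p.2.1, p.2.2 - p.2.1, p.1 - p.2.1)

/-- The seven-fold even block. -/
def blockTri (t p : ℤ × ℤ × ℤ) (i j : Fin 3) : Tri :=
  if i = j then dTri t i else if j = i + 1 then fTri p j else fTri p i

/-- The determinant of the even block plus one. -/
def detTri (t p : ℤ × ℤ × ℤ) : Tri :=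
  let m0 := add (dTri t 0) (cst 7)
  let m1 := add (dTri t 1) (cst 7)
  let m2 := add (dTri t 2) (cst 7)
  let f0 := fTri p 0
  let f1 := fTri p 1
  let f2 := fTri p 2
  sub (sub (sub (add (mul m0 (mul m1 m2)) (smul 2 (mul f1 (mul f2 f0)))) (mul m0 (mul f2 f2)))
    (mul m1 (mul f0 f0))) (mul m2 (mul f1 f1))

/-- `R = 49 - (7P)²` on the diagonal. -/
def rTri (t p : ℤ × ℤ × ℤ) : Fin 3 → Tri
  | 0 => sub (cst 49) (add (mul (dTri t 0) (dTri t 0)) (add (mul (fTri p 1) (fTri p 1)) (mul (fTri p 0) (fTri p 0))))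
  | 1 => sub (cst 49) (add (mul (dTri t 1) (dTri t 1)) (add (mul (fTri p 1) (fTri p 1)) (mul (fTri p 2) (fTri p 2))))
  | 2 => sub (cst 49) (add (mul (dTri t 2) (dTri t 2)) (add (mul (fTri p 0) (fTri p 0)) (mul (fTri p 2) (fTri p 2))))

/-- Ninety-eight times the trace of the square of the product with the element of order seven. -/
def trTri (t p : ℤ × ℤ × ℤ) : Tri :=
  let d0 := dTri t 0
  let d1 := dTri t 1
  let d2 := dTri t 2
  let f0 := fTri p 0
  let f1 := fTri p 1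
  let f2 := fTri p 2
  let r0 := rTri t p 0
  let r1 := rTri t p 1
  let r2 := rTri t p 2
  sub (smul 2 (add (add (add (mul p2 (mul d0 d0)) (mul p1 (mul d1 d1))) (mul p3 (mul d2 d2)))
      (smul 2 (add (add (mul p2 (mul f1 f1)) (mul p3 (mul f0 f0))) (mul p1 (mul f2 f2))))))
    (smul 2 (add (add (mul p3 (sub r2 (add r0 r1))) (mul p1 (sub r1 (add r0 r2))))
      (mul p2 (sub r0 (add r1 r2)))))

/-- The range of the traces. -/
def vals : List ℤ := [-3, -2, -1, 0, 1, 2]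

/-- The range of the trace of the square. -/
def valsSq : List ℤ := [-3, -2, -1, 0, 1, 2, 3, 4, 5, 6]

def passes (t p : ℤ × ℤ × ℤ) : Bool :=
  !nz (detTri t p) && valsSq.any fun v => !nz (sub (trTri t p) (cst (98 * v)))

/-- The candidates. -/
def survivors : List ((ℤ × ℤ × ℤ) × (ℤ × ℤ × ℤ)) :=
  vals.flatMap fun a => vals.flatMap fun b => vals.flatMap fun c =>
    if a + b + c = 1 then
      vals.flatMap fun p => vals.flatMap fun q => vals.flatMap fun r =>
        if p + q + r = 0 then (if passes (a, b, c) (p, q, r) then [((a, b, c), (p, q, r))] else []) else []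
    else []

end CfsgLib.Char.GTwoTwo.Cubic
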