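import Cfsg.Agent.Lib.Char.GTwoTwo.NotSimple
import Cfsg.Agent.Lib.Char.GTwoTwo.Chars
import Cfsg.Agent.Lib.Char.InvariantAbove

/-!
# The six-dimensional representation
-/

set_option autoImplicit false
set_option linter.all false

open Cfsg CfsgLib.Perm.PrimeBlock CfsgLib.Block Finset
open CfsgLib.Char.MEleven.Order
open scoped ComplexConjugate

namespace CfsgLib.Char.GTwoTwo

universe u

variable {G : Type u} [Group G] [Finite G]

/-- The group with its frame, its simple subgroup of index two and the block of the latter. -/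
structure Ctx (G : Type u) [Group G] : Type u where
  h : Hyp G
  F : Frame G
  T : Subgroup G
  normal : T.Normal
  simple : IsSimpleGroup T
  card_T : Nat.card T = 6048
  index_T : T.index = 2
  x_mem : F.x ∈ T
  y_not : F.y ∉ T
  s_mem : F.y ^ 2 ∈ T
  seven_mem : ∀ g : G, orderOf g = 7 → g ∈ T
  B : Blk T

theorem Hyp.exists_ctx (h : Hyp G) : Nonempty (Ctx G) := by
  obtain ⟨F⟩ := h.exists_frame
  obtain ⟨C, h1, h2, h3, h4⟩ := exists_half h F
  haveI := C.simple
  haveI := C.normal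
  obtain ⟨B⟩ := exists_blk h1 C.noncomm
  exact ⟨⟨h, F, C.T, C.normal, C.simple, h1, h2, C.x_mem, h3, h4,
    fun g hg => pair_contains C.x_mem F.hx h hg, B⟩⟩

namespace Ctx

variable (K : Ctx G)

theorem mul_mem_iff {a b : G} : a * b ∈ K.T ↔ (a ∈ K.T ↔ b ∈ K.T) :=
  Subgroup.mul_mem_iff_of_index_two K.index_T

theorem u_not : K.F.y ^ 3 ∉ K.T := by
  intro h
  rw [pow_succ, K.mul_mem_iff] at h
  exact K.y_not (h.1 K.s_mem)

theorem y_pow_mem : ∀ j : ℕ, K.F.y ^ j ∈ K.T ↔ j % 2 = 0 := by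
  intro j
  induction j with
  | zero => simp [one_mem]
  | succ j ih =>
    rw [pow_succ, K.mul_mem_iff, ih]
    simp only [K.y_not, iff_false]
    omega

/-- The sign character of the subgroup of index two. -/
noncomputable def sg : G →* ℂˣ where
  toFun g := by classical exact if g ∈ K.T then 1 else -1
  map_one' := by simp [one_mem]
  map_mul' a b := by
    classical
    by_cases ha : a ∈ K.T <;> by_cases hb : b ∈ K.T <;> simp [K.mul_mem_iff, ha, hb]

theorem sg_mem {g : G} (hg : g ∈ K.T) : K.sg g = 1 := by simp [sg, hg]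

theorem sg_not {g : G} (hg : g ∉ K.T) : K.sg g = -1 := by simp [sg, hg]

theorem quotient_cyclic [K.T.Normal] : IsCyclic (G ⧸ K.T) := by
  haveI : Fact (Nat.Prime 2) := ⟨Nat.prime_two⟩
  exact isCyclic_of_prime_card (p := 2) (by rw [← Subgroup.index_eq_card, K.index_T])

/-- An irreducible character of `T` alone of its degree extends. -/
theorem exists_extension (χ : IrrCharacter K.T) {d : ℕ} (hd : dg χ = d)
    (huniq : ∀ ψ : IrrCharacter K.T, dg ψ = d → ψ = χ) :
    ∃ σ : Representation ℂ G (Fin d → ℂ), IsIrrCharacter G σ.character ∧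
      ∀ t : K.T, σ.character (t : G) = (χ : K.T → ℂ) t := by
  classical
  haveI := K.normal
  obtain ⟨n, ρ, hρ, he⟩ := χ.2
  obtain rfl : d = n := by
    have h := val_one χ
    rw [← he, Representation.char_one, Module.finrank_fin_fun, hd] at h
    exact_mod_cast h.symm
  haveI := hρ
  have hinv : IsInvariant K.T ρ := by
    refine (isInvariant_iff K.T ρ he).2 fun g n => ?_
    let f : K.T →* K.T := normalConjHom K.T g
    have hf : Function.Surjective f := fun m => ⟨normalConjHom K.T g⁻¹ m, by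
      show normalConjHom K.T g (normalConjHom K.T g⁻¹ m) = m
      rw [← normalConjHom_mul, mul_inv_cancel, normalConjHom_one]⟩
    have hirr := CfsgLib.Char.isIrrCharacter_comp_surjective χ.2 f hf
    have := huniq ⟨_, hirr⟩ (by
      show charDegree (fun x => (χ : K.T → ℂ) (f x)) = d
      rw [← hd]
      simp [dg, charDegree])
    exact congrFun (congrArg Subtype.val this) n
  obtain ⟨σ, hσ⟩ := extends_of_cyclic K.T ρ hinv K.quotient_cyclic
  refine ⟨σ, isIrrCharacter_of_extends K.T ρ hσ, fun t => ?_⟩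
  show LinearMap.trace ℂ _ (σ (t : G)) = _
  rw [hσ t, ← he]
  rfl

theorem orderOf_u : orderOf (K.F.y ^ 3) = 2 := by
  rw [orderOf_pow' _ (by norm_num), K.F.hy]; rfl

theorem orderOf_s : orderOf (K.F.y ^ 2) = 3 := by
  rw [orderOf_pow' _ (by norm_num), K.F.hy]; rfl

theorem u_inv : K.F.y ^ 3 * K.F.x * (K.F.y ^ 3)⁻¹ = K.F.x⁻¹ := by
  rw [conj_pow_eq K.F.conj, eq_inv_iff_mul_eq_one, ← pow_succ, ← pow_mod_orderOf, K.F.hx]
  norm_num

/-- The seventh root of unity used throughout. -/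
noncomputable def zeta : ℂ := Complex.exp (2 * Real.pi * Complex.I / (7 : ℕ))

theorem zeta_prim : IsPrimitiveRoot zeta 7 := Complex.isPrimitiveRoot_exp 7 (by norm_num)

/-- The exponents of the eigenvalues. -/
def expo : Fin 6 → ℕ := ![1, 5, 4, 6, 2, 3]

/-- The matrix of the element of order seven. -/
noncomputable def matX : Matrix (Fin 6) (Fin 6) ℂ := Matrix.diagonal fun k => zeta ^ expo k

/-- The matrix of the element of order six. -/
def matY : Matrix (Fin 6) (Fin 6) ℂ := fun i j => if i = j + 1 then 1 else 0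

/-- A faithful representation in normal form. -/
structure Rep (K : Ctx G) : Type u where
  R : G →* Matrix (Fin 6) (Fin 6) ℂ
  R_x : R K.F.x = matX
  R_y : R K.F.y = matY
  inj : Function.Injective R
  irr : IsIrrCharacter G fun g => (R g).trace
  restr : ∀ t : K.T, (R (t : G)).trace = (K.B.a : K.T → ℂ) t

theorem expo_step : ∀ k : Fin 6, (expo (k + 1)) % 7 = 5 * expo k % 7 := by decide

theorem expo_inj : ∀ j k : Fin 6, expo j % 7 = expo k % 7 → j = k := by decide

theorem expo_pos : ∀ j : Fin 6, expo j < 7 ∧ expo j ≠ 0 := by decide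

theorem five_pow : ∀ r < 7, r ≠ 0 → ∃ n < 6, 5 ^ n * r % 7 = 1 := by decide

theorem expo_eq : ∀ k : Fin 6, expo k % 7 = 5 ^ (k : ℕ) % 7 := by decide

theorem exists_rep : Nonempty (Rep K) := by
  classical
  haveI := Fintype.ofFinite G
  obtain ⟨σ, hirr, hres⟩ := K.exists_extension K.B.a K.B.a_deg K.B.a_uniq
  have hdim : Module.finrank ℂ (Fin 6 → ℂ) = 6 := Module.finrank_fin_fun ℂ
  obtain ⟨b, μ, hμ, hb, hsum⟩ := CfsgLib.Char.exists_eigen_data σ K.F.x
  have hx7 : K.F.x ^ 7 = 1 := K.F.hx ▸ pow_orderOf_eq_one K.F.x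
  have hax : σ.character K.F.x = -1 := by
    rw [hres ⟨K.F.x, K.x_mem⟩]
    exact K.B.a_seven _ (by rw [Subgroup.orderOf_mk, K.F.hx])
  obtain ⟨i, hi⟩ : ∃ i, μ i ≠ 1 := by
    by_contra hall
    push Not at hall
    have := hsum 1
    rw [pow_one, hax] at this
    simp [hall, hdim] at this
    norm_num at this
  obtain ⟨r, hr, hr'⟩ := zeta_prim.eq_pow_of_pow_eq_one (show μ i ^ 7 = 1 by rw [← K.F.hx]; exact hμ i)
  have hr0 : r ≠ 0 := fun e => hi (by rw [← hr', e, pow_zero])
  obtain ⟨n0, -, hn0⟩ := five_pow r hr hr0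
  have hyx : ∀ (n : ℕ), K.F.x * K.F.y ^ n = K.F.y ^ n * K.F.x ^ 5 ^ n := by
    intro n
    have h15 : K.F.x ^ (3 ^ n * 5 ^ n) = K.F.x := by
      rw [← mul_pow, ← pow_mod_orderOf, K.F.hx, Nat.pow_mod]
      norm_num
    have := conj_pow_eq K.F.conj n
    calc K.F.x * K.F.y ^ n = (K.F.x ^ 3 ^ n) ^ 5 ^ n * K.F.y ^ n := by rw [← pow_mul, h15]
      _ = (K.F.y ^ n * K.F.x * (K.F.y ^ n)⁻¹) ^ 5 ^ n * K.F.y ^ n := by rw [this]
      _ = K.F.y ^ n * K.F.x ^ 5 ^ n := by rw [conj_pow]; group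
  obtain ⟨v, hv⟩ : ∃ v : Fin 6 → (Fin 6 → ℂ), ∀ k, v k = σ (K.F.y ^ (n0 + (k : ℕ))) (b i) := ⟨_, fun k => rfl⟩
  have hv0 : ∀ k, v k ≠ 0 := by
    intro k h
    have h1 := congrArg (σ (K.F.y ^ (n0 + (k : ℕ)))⁻¹) h
    rw [hv, ← Module.End.mul_apply, ← map_mul, inv_mul_cancel, map_one, map_zero] at h1
    exact b.ne_zero i h1
  have heig : ∀ k, σ K.F.x (v k) = zeta ^ expo k • v k := by
    intro k
    rw [hv, ← Module.End.mul_apply, ← map_mul, hyx, map_mul, Module.End.mul_apply, hb, map_smul]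
    congr 1
    rw [← hr', ← pow_mul]
    rw [← pow_mod_orderOf, ← zeta_prim.eq_orderOf]
    rw [show r * 5 ^ (n0 + (k : ℕ)) = (5 ^ n0 * r) * 5 ^ (k : ℕ) by rw [pow_add]; ring,
      Nat.mul_mod, hn0, one_mul, Nat.mod_mod, ← expo_eq, Nat.mod_eq_of_lt (expo_pos k).1]
  have hinj : Function.Injective fun k : Fin 6 => zeta ^ expo k := fun j k e => by
    refine expo_inj j k ?_
    rw [Nat.mod_eq_of_lt (expo_pos j).1, Nat.mod_eq_of_lt (expo_pos k).1]
    exact zeta_prim.pow_inj (expo_pos j).1 (expo_pos k).1 e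
  have hli := Module.End.eigenvectors_linearIndependent' (σ K.F.x) _ hinj v
    fun k => ⟨Module.End.mem_eigenspace_iff.2 (heig k), hv0 k⟩
  obtain ⟨Bs, hB⟩ : ∃ Bs : Module.Basis (Fin 6) ℂ (Fin 6 → ℂ), ∀ k, Bs k = v k :=
    ⟨basisOfLinearIndependentOfCardEqFinrank hli (by rw [Fintype.card_fin, hdim]),
      fun k => by rw [coe_basisOfLinearIndependentOfCardEqFinrank]⟩
  let R : G →* Matrix (Fin 6) (Fin 6) ℂ :=
    ((LinearMap.toMatrixAlgEquiv Bs).toMulEquiv.toMonoidHom).comp σ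
  have hR : ∀ g, R g = LinearMap.toMatrix Bs Bs (σ g) := fun g => rfl
  have htr : ∀ g, (R g).trace = σ.character g := fun g => by
    rw [hR, ← LinearMap.trace_eq_matrix_trace ℂ Bs]; rfl
  have hrot : ∀ k : Fin 6, σ K.F.y (Bs k) = Bs (k + 1) := by
    intro k
    rw [hB, hB, hv, hv, ← Module.End.mul_apply, ← map_mul, ← pow_succ']
    congr 2
    rw [pow_eq_pow_iff_modEq, K.F.hy]
    revert k
    intro k
    fin_cases k <;> simp [Nat.ModEq] <;> omega
  refine ⟨⟨R, ?_, ?_, ?_, ?_, ?_⟩⟩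
  · ext j k
    rw [hR, LinearMap.toMatrix_apply, hB k, heig, map_smul, ← hB k, Bs.repr_self, matX,
      Matrix.diagonal_apply, Finsupp.smul_single, smul_eq_mul, mul_one, Finsupp.single_apply]
    by_cases e : j = k
    · subst e; simp
    · rw [if_neg e, if_neg (Ne.symm e)]
  · ext j k
    rw [hR, LinearMap.toMatrix_apply, hrot, Bs.repr_self, Finsupp.single_apply, matY]
    by_cases e : j = k + 1
    · subst e; simp
    · rw [if_neg e, if_neg (Ne.symm e)]
  · intro g₁ g₂ e
    suffices hk : ∀ g, R g = 1 → g = 1 by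
      refine inv_mul_eq_one.1 (hk _ ?_)
      rw [map_mul, ← e, ← map_mul, inv_mul_cancel, map_one]
    haveI := K.normal
    haveI := K.simple
    have hker : ∀ t : K.T, R (t : G) = 1 → t = 1 := by
      intro t ht
      let f : K.T →* Matrix (Fin 6) (Fin 6) ℂ := R.comp K.T.subtype
      rcases (MonoidHom.normal_ker f).eq_bot_or_eq_top with h | h
      · exact Subgroup.mem_bot.1 (h ▸ (show t ∈ f.ker from ht))
      · exfalso
        have h1 : R K.F.x = 1 := (show (⟨K.F.x, K.x_mem⟩ : K.T) ∈ f.ker from h ▸ Subgroup.mem_top _)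
        have h2 := congrArg Matrix.trace h1
        rw [htr, hax, Matrix.trace_one, Fintype.card_fin] at h2
        norm_num at h2
    intro g hg
    have hg' : R g⁻¹ = 1 := by
      have : R (g * g⁻¹) = 1 := by rw [mul_inv_cancel, map_one]
      rwa [map_mul, hg, one_mul] at this
    have hc : R (g * K.F.x * g⁻¹ * K.F.x⁻¹) = 1 := by
      rw [map_mul, map_mul, map_mul, hg, hg', one_mul, mul_one, ← map_mul, mul_inv_cancel, map_one]
    have hcT : g * K.F.x * g⁻¹ * K.F.x⁻¹ ∈ K.T :=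
      mul_mem (K.normal.conj_mem _ K.x_mem g) (inv_mem K.x_mem)
    have := congrArg Subtype.val (hker ⟨_, hcT⟩ hc)
    have hcomm : g * K.F.x = K.F.x * g := mul_inv_eq_iff_eq_mul.1 (mul_inv_eq_one.1 this)
    have hmem : g ∈ K.T := (Subgroup.zpowers_le.2 K.x_mem) (K.h.cent K.F.hx hcomm)
    exact congrArg Subtype.val (hker ⟨g, hmem⟩ hg)
  · rwa [show (fun g => (R g).trace) = σ.character from funext htr]
  · intro t; rw [htr, hres]

end Ctx

end CfsgLib.Char.GTwoTwo
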