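import Cfsg.Agent.Lib.Char.GTwoTwo.Generate
import Cfsg.Agent.Lib.Char.SquareChar

/-!
# The invariant alternating form
-/

set_option autoImplicit false
set_option linter.all false

open Cfsg CfsgLib.Block Finset Matrix
open CfsgLib.Char.MEleven.Order
open scoped ComplexConjugate

namespace CfsgLib.Char.GTwoTwo

universe u

variable {G : Type u} [Group G] [Finite G]

namespace Ctx

open Fin.NatCast in
theorem matY_two (i j : Fin 6) :
    ((Ctx.matY : Matrix (Fin 6) (Fin 6) ℂ) ^ 2) i j = if i = j + 2 then 1 else 0 := by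
  rw [matY_pow]; norm_num

open Fin.NatCast in
theorem matY_three (i j : Fin 6) :
    ((Ctx.matY : Matrix (Fin 6) (Fin 6) ℂ) ^ 3) i j = if i = j + 3 then 1 else 0 := by
  rw [matY_pow]; norm_num

theorem expo_opp : ∀ i j : Fin 6, (expo i + expo j) % 7 = 0 → j = i + 3 := by decide

/-- The sign pattern of the form. -/
def sgn6 (k : Fin 6) : ℂ := if (k : ℕ) % 2 = 0 then 1 else -1

variable {K : Ctx G} (M : Rep K)

theorem exists_form : ∃ B : Matrix (Fin 6) (Fin 6) ℂ, B ≠ 0 ∧ Bᵀ = -B ∧
    ∀ t : K.T, (M.R (t : G))ᵀ * B * M.R (t : G) = B := by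
  classical
  haveI := Fintype.ofFinite K.T
  haveI := Fintype.ofFinite (IrrCharacter K.T)
  let ρ : Representation ℂ K.T (Fin 6 → ℂ) :=
    ((Matrix.toLinAlgEquiv' (R := ℂ) (n := Fin 6)).toMulEquiv.toMonoidHom).comp (M.R.comp K.T.subtype)
  have hρ : ∀ t : K.T, LinearMap.toMatrix' (ρ t) = M.R (t : G) := fun t =>
    LinearMap.toMatrix'_toLin' _
  have hchar : ρ.character = (K.B.a : K.T → ℂ) := by
    funext t
    rw [← CfsgLib.Char.toMatrix'_trace, hρ, M.restr]
  set a := K.B.a with ha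
  set L : K.T → ℂ := fun g => ((a : K.T → ℂ) g * (a : K.T → ℂ) g - (a : K.T → ℂ) (g * g)) / 2 with hL
  have hLc : IsCharacter K.T L := CfsgLib.Char.isCharacter_altSquare (CfsgLib.Char.isCharacter_irr a)
  choose n hn using fun ψ : IrrCharacter K.T => CfsgLib.Char.classInner_char_irr_nat hLc ψ
  have hLcls : IsClassFunction K.T L := by
    intro g h
    simp only [hL]
    rw [CfsgLib.Char.isClassFunction_irr a g h,
      show h * g * h⁻¹ * (h * g * h⁻¹) = h * (g * g) * h⁻¹ by group,
      CfsgLib.Char.isClassFunction_irr a (g * g) h]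
  have hexp : ∀ g, L g = ∑ ψ : IrrCharacter K.T, (n ψ : ℂ) * (ψ : K.T → ℂ) g := by
    intro g
    conv_lhs => rw [CfsgLib.Char.classFun_expand hLcls]
    simp only [Finset.sum_apply, Pi.smul_apply, smul_eq_mul, hn]
  have h15 : ∑ ψ : IrrCharacter K.T, n ψ * dg ψ = 15 := by
    have h := hexp 1
    simp only [hL, mul_one, val_one, ha, K.B.a_deg] at h
    norm_num at h
    exact_mod_cast h.symm
  have hle : ∀ ψ : IrrCharacter K.T, 15 < dg ψ → n ψ = 0 := by
    intro ψ hψ
    by_contra h0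
    have h1 := Finset.single_le_sum (f := fun ψ => n ψ * dg ψ) (fun _ _ => Nat.zero_le _) (Finset.mem_univ ψ)
    rw [h15] at h1
    have : dg ψ ≤ n ψ * dg ψ := Nat.le_mul_of_pos_left _ (Nat.pos_of_ne_zero h0)
    omega
  let xT : K.T := ⟨K.F.x, K.x_mem⟩
  have hx : orderOf xT = 7 := (Subgroup.orderOf_mk _ _).trans K.F.hx
  have hx2 : orderOf (xT * xT) = 7 := by
    rw [← pow_two, Nat.Coprime.orderOf_pow (by rw [hx]; norm_num), hx]
  have hLx : L xT = 1 := by
    simp only [hL, ha, K.B.a_seven _ hx, K.B.a_seven _ hx2]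
    norm_num
  have ha1 : a ≠ oneChar K.T := fun e => by
    have h := K.B.a_deg
    rw [← ha, e, dg_one] at h
    norm_num at h
  have hn1 : n (oneChar K.T) ≠ 0 := by
    intro h0
    have h := hexp xT
    rw [hLx, ← Finset.sum_subset (Finset.subset_univ ({a} : Finset (IrrCharacter K.T))) (fun ψ _ hψ => by
      rw [Finset.mem_singleton] at hψ
      by_cases h1 : ψ = oneChar K.T
      · subst h1; simp [h0]
      by_cases h2 : ψ = K.B.b
      · rw [hle ψ (by rw [h2, K.B.b_deg]; norm_num)]; simp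
      by_cases h3 : ψ ∈ K.B.Y
      · rw [hle ψ (by rw [K.B.Y_deg ψ h3]; norm_num)]; simp
      rw [K.B.outside xT hx ψ h1 hψ h2 h3, mul_zero]), Finset.sum_singleton, ha,
      K.B.a_seven _ hx] at h
    have h' : ((1 : ℤ) : ℂ) = ((-(n a : ℤ)) : ℤ) := by push_cast; rw [ha]; linear_combination h
    have : (1 : ℤ) = -(n a : ℤ) := by exact_mod_cast h'
    omega
  by_contra hno
  push Not at hno
  have habs : ∀ (t : K.T) (X : Matrix (Fin 6) (Fin 6) ℂ),
      (M.R (t : G))ᵀ * CfsgLib.Char.formProj ρ X * M.R (t : G) = CfsgLib.Char.formProj ρ X := by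
    intro t X
    have h1 : CfsgLib.Char.formAct (LinearMap.toMatrix' (ρ t)) *
        (∑ g : K.T, CfsgLib.Char.formAct (LinearMap.toMatrix' (ρ g))) =
        ∑ g : K.T, CfsgLib.Char.formAct (LinearMap.toMatrix' (ρ g)) := by
      rw [Finset.mul_sum]
      exact Fintype.sum_bijective (fun g => g * t) (Group.mulRight_bijective t) _ _ fun g => by
        rw [map_mul, LinearMap.toMatrix'_mul, CfsgLib.Char.formAct_mul]
    have h2 : CfsgLib.Char.formAct (LinearMap.toMatrix' (ρ t)) * CfsgLib.Char.formProj ρ =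
        CfsgLib.Char.formProj ρ := by
      rw [CfsgLib.Char.formProj, mul_smul_comm, h1]
    have h3 := LinearMap.congr_fun h2 X
    rw [Module.End.mul_apply, hρ] at h3
    exact h3
  have hswap : CfsgLib.Char.formSwap * CfsgLib.Char.formProj ρ = CfsgLib.Char.formProj ρ := by
    refine LinearMap.ext fun X => ?_
    show (CfsgLib.Char.formProj ρ X)ᵀ = CfsgLib.Char.formProj ρ X
    by_contra hne
    obtain ⟨t, ht⟩ := hno ((CfsgLib.Char.formProj ρ X)ᵀ - CfsgLib.Char.formProj ρ X) (sub_ne_zero.2 hne)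
      (by rw [Matrix.transpose_sub, Matrix.transpose_transpose, neg_sub])
    refine ht ?_
    rw [Matrix.mul_sub, Matrix.sub_mul, habs]
    congr 1
    have := congrArg Matrix.transpose (habs t X)
    rwa [Matrix.transpose_mul, Matrix.transpose_mul, Matrix.transpose_transpose, ← Matrix.mul_assoc] at this
  refine hn1 ?_
  have h1 := CfsgLib.Char.trace_formSwap_formProj ρ
  rw [hswap, CfsgLib.Char.trace_formProj] at h1
  have h2 := hn (oneChar K.T)
  simp only [classInner, hchar, Complex.conj_conj] at h1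
  simp only [classInner, hL, show ∀ g : K.T, ((oneChar K.T : IrrCharacter K.T) : K.T → ℂ) g = 1 from
    fun _ => rfl, map_one, mul_one, sub_div, Finset.sum_sub_distrib, mul_sub, ← Finset.sum_div] at h2
  have h3 : ((n (oneChar K.T) : ℕ) : ℂ) = 0 := by
    rw [← h2, ← mul_div_assoc, ← mul_div_assoc, h1, sub_self]
  exact_mod_cast h3

/-- The relations among the entries of the third generator. -/
structure MatProps (E : Matrix (Fin 6) (Fin 6) ℂ) : Prop where
  shift : ∀ i j, E (i + 3) (j + 3) = E i j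
  sym : ∀ i j, E j i = sgn6 i * sgn6 j * E i j
  sq : E * E = 1
  diag : ∀ n < 4, ∃ t : ℤ, (∑ k, (zeta ^ expo k) ^ n * E k k) = t ∧ -3 ≤ t ∧ t ≤ 2 ∧ (n = 0 → t = -2)
  off : ∀ n < 4, ∃ t : ℤ, (∑ k, (zeta ^ expo k) ^ n * E (k + 4) k) = t ∧ -3 ≤ t ∧ t ≤ 2 ∧ (n = 0 → t = 0)
  two : ∃ t : ℤ, (Ctx.matX * E * (Ctx.matX * E)).trace = t ∧ -3 ≤ t ∧ t ≤ 6

theorem trace_range {t : G} (ht : t ∈ K.T) (h1 : t ≠ 1) :
    ∃ k : ℤ, (M.R t).trace = k ∧ -3 ≤ k ∧ k ≤ 2 := by
  obtain ⟨k, hk, h2, h3⟩ := K.B.range ⟨t, ht⟩ (fun e => h1 (congrArg Subtype.val e))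
  exact ⟨k, (M.restr ⟨t, ht⟩).trans hk, h2, h3⟩

theorem third_props {e : G} (he : K.Third e) : MatProps (M.R e) := by
  classical
  haveI := K.normal
  set E := M.R e with hE
  set Y : Matrix (Fin 6) (Fin 6) ℂ := Ctx.matY
  have hsq : E * E = 1 := by rw [hE, ← map_mul, he.sq, map_one]
  have hu : E * Y ^ 3 = Y ^ 3 * E := by
    rw [hE, show Y ^ 3 = M.R (K.F.y ^ 3) by rw [map_pow, M.R_y], ← map_mul, ← map_mul, he.comm_u]
  have hshift : ∀ i j, E (i + 3) (j + 3) = E i j := by
    intro i j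
    have h := congrFun (congrFun hu (i + 3)) j
    rw [Matrix.mul_apply, Matrix.mul_apply, Finset.sum_eq_single (j + 3), Finset.sum_eq_single i] at h
    · rw [matY_three, matY_three, if_pos (by norm_num), if_pos (by norm_num)] at h
      simpa using h
    · intro k _ hk
      rw [matY_three, if_neg (fun e => hk (add_right_cancel e.symm)), zero_mul]
    · intro h; exact absurd (Finset.mem_univ _) h
    · intro k _ hk
      rw [matY_three, if_neg (fun e => hk e), mul_zero]
    · intro h; exact absurd (Finset.mem_univ _) h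
  obtain ⟨B, hB0, hBa, hBi⟩ := exists_form M
  have hBx : ∀ i j, j ≠ i + 3 → B i j = 0 := by
    intro i j hij
    have h := congrFun (congrFun (hBi ⟨K.F.x, K.x_mem⟩) i) j
    rw [M.R_x, Ctx.matX, Matrix.diagonal_transpose, Matrix.mul_diagonal, Matrix.diagonal_mul] at h
    have hne : zeta ^ expo i * zeta ^ expo j ≠ 1 := by
      rw [← pow_add]
      intro e
      exact hij (expo_opp i j (Nat.mod_eq_zero_of_dvd (zeta_prim.dvd_of_pow_eq_one _ e)))
    have : (zeta ^ expo i * zeta ^ expo j - 1) * B i j = 0 := by linear_combination h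
    exact (mul_eq_zero.1 this).resolve_left (sub_ne_zero.2 hne)
  have hBs : ∀ i j, B (i + 2) (j + 2) = B i j := by
    intro i j
    have h := congrFun (congrFun (hBi ⟨K.F.y ^ 2, K.s_mem⟩) i) j
    rw [map_pow, M.R_y, Matrix.mul_apply, Finset.sum_eq_single (j + 2)] at h
    · rw [Matrix.mul_apply, Finset.sum_eq_single (i + 2)] at h
      · rw [Matrix.transpose_apply, matY_two, matY_two, if_pos (by norm_num), if_pos (by norm_num),
          one_mul, mul_one] at h
        exact h
      · intro k _ hk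
        rw [Matrix.transpose_apply, matY_two, if_neg (fun e => hk e), zero_mul]
      · intro h; exact absurd (Finset.mem_univ _) h
    · intro k _ hk
      rw [matY_two, if_neg (fun e => hk e), mul_zero]
    · intro h; exact absurd (Finset.mem_univ _) h
  set c := B 0 3 with hc
  have hBt : ∀ i j, B j i = -B i j := fun i j => by
    have := congrFun (congrFun hBa i) j
    simpa using this
  have hBk : ∀ k : Fin 6, B k (k + 3) = sgn6 k * c := by
    have h30 : B 3 0 = -c := hBt 0 3
    have h25 : B 2 5 = c := hBs 0 3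
    have h41 : B 4 1 = c := (hBs 2 5).trans h25
    have h52 : B 5 2 = -c := (hBs 3 0).trans h30
    have h14 : B 1 4 = -c := (hBs 5 2).trans h52
    intro k
    fin_cases k <;> simp [sgn6] <;> first | assumption | rfl
  have hc0 : c ≠ 0 := by
    intro h0
    refine hB0 (Matrix.ext fun i j => ?_)
    by_cases hij : j = i + 3
    · rw [hij, hBk, h0, mul_zero]; rfl
    · rw [hBx i j hij]; rfl
  have hBE : Eᵀ * B = B * E := by
    have h := hBi ⟨e, he.mem⟩
    calc Eᵀ * B = Eᵀ * B * (E * E) := by rw [hsq, Matrix.mul_one]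
      _ = (Eᵀ * B * E) * E := by rw [Matrix.mul_assoc (Eᵀ * B)]
      _ = B * E := by rw [h]
  have hsym : ∀ i j, E j i = sgn6 i * sgn6 j * E i j := by
    intro i j
    have h := congrFun (congrFun hBE (i + 3)) j
    rw [Matrix.mul_apply, Matrix.mul_apply, Finset.sum_eq_single (j + 3), Finset.sum_eq_single i] at h
    · have h3 : ∀ k : Fin 6, sgn6 (k + 3) = -sgn6 k ∧ sgn6 k * sgn6 k = 1 ∧ k + 3 + 3 = k := by
        intro k; fin_cases k <;> simp [sgn6]
      have hj := hBk (j + 3)
      have hi := hBk (i + 3)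
      rw [(h3 j).2.2, (h3 j).1] at hj
      rw [(h3 i).2.2, (h3 i).1] at hi
      rw [Matrix.transpose_apply, hj, hi, hshift] at h
      have h2 : (E j i - sgn6 i * sgn6 j * E i j) * c = 0 := by
        linear_combination (-sgn6 j) * h - c * E j i * (h3 j).2.1
      exact sub_eq_zero.1 ((mul_eq_zero.1 h2).resolve_right hc0)
    · intro k _ hk
      rw [hBx (i + 3) k (fun e => hk (by rw [e, add_assoc]; simp)), zero_mul]
    · intro h; exact absurd (Finset.mem_univ _) h
    · intro k _ hk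
      rw [hBx k j (fun e => hk (by rw [e, add_assoc]; simp)), mul_zero]
    · intro h; exact absurd (Finset.mem_univ _) h
  have hxne : ∀ (n : ℕ) (w : G), n < 4 → n ≠ 0 → orderOf w ≠ 7 → K.F.x ^ n * w ≠ 1 := by
    intro n w hn hn0 hw h
    refine hw ?_
    rw [eq_inv_of_mul_eq_one_right h, orderOf_inv, Nat.Coprime.orderOf_pow, K.F.hx]
    rw [K.F.hx]
    interval_cases n <;> first | exact absurd rfl hn0 | norm_num
  have hXn : ∀ n, M.R (K.F.x ^ n) = Matrix.diagonal fun k => (zeta ^ expo k) ^ n := fun n => by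
    rw [map_pow, M.R_x, Ctx.matX, Matrix.diagonal_pow]; rfl
  refine ⟨hshift, hsym, hsq, ?_, ?_, ?_⟩
  · intro n hn
    have htr : (M.R (K.F.x ^ n * e)).trace = ∑ k, (zeta ^ expo k) ^ n * E k k := by
      rw [map_mul, hXn]
      simp [Matrix.trace, Matrix.diagonal_mul, hE]
    by_cases hn0 : n = 0
    · refine ⟨-2, ?_, by norm_num, by norm_num, fun _ => rfl⟩
      rw [← htr, hn0, pow_zero, one_mul, show (M.R e).trace = _ from M.restr ⟨e, he.mem⟩,
        (K.B.invol _ ((Subgroup.orderOf_mk _ _).trans (orderOf_eq_prime (by rw [pow_two]; exact he.sq) he.ne))).1]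
      norm_num
    · obtain ⟨k, hk, h2, h3⟩ := trace_range M (mul_mem (pow_mem K.x_mem n) he.mem)
        (hxne n e hn hn0 (by rw [orderOf_eq_prime (by rw [pow_two]; exact he.sq) he.ne]; norm_num))
      exact ⟨k, htr ▸ hk, h2, h3, fun h => absurd h hn0⟩
  · intro n hn
    have htr : (M.R (K.F.x ^ n * (K.F.y ^ 2 * e))).trace = ∑ k, (zeta ^ expo k) ^ n * E (k + 4) k := by
      rw [map_mul, map_mul, hXn, map_pow, M.R_y, Matrix.trace]
      refine Finset.sum_congr rfl fun k _ => ?_
      rw [Matrix.diag_apply, Matrix.diagonal_mul, Matrix.mul_apply, Finset.sum_eq_single (k + 4)]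
      · rw [matY_two, if_pos (by rw [add_assoc]; simp), one_mul]
      · intro l _ hl
        rw [matY_two, if_neg (fun e => hl (by rw [e, add_assoc]; simp)), zero_mul]
      · intro h; exact absurd (Finset.mem_univ _) h
    have hord : orderOf (K.F.y ^ 2 * e) = 3 := by
      obtain ⟨g, hg⟩ := isConj_iff.1 he.three
      rw [← hg]
      exact ((MulAut.conj g).orderOf_eq _).trans K.orderOf_s
    by_cases hn0 : n = 0
    · refine ⟨0, ?_, by norm_num, by norm_num, fun _ => rfl⟩
      obtain ⟨g, hg⟩ := isConj_iff.1 he.three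
      have hcl : (M.R (g * K.F.y ^ 2 * g⁻¹)).trace = (M.R (K.F.y ^ 2)).trace :=
        CfsgLib.Char.isClassFunction_irr ⟨_, M.irr⟩ (K.F.y ^ 2) g
      rw [← htr, hn0, pow_zero, one_mul, ← hg, hcl, M.trace_y_pow (by norm_num)]
      norm_num
    · obtain ⟨k, hk, h2, h3⟩ := trace_range M (mul_mem (pow_mem K.x_mem n) (mul_mem K.s_mem he.mem))
        (hxne n _ hn hn0 (by rw [hord]; norm_num))
      exact ⟨k, htr ▸ hk, h2, h3, fun h => absurd h hn0⟩
  · have htr : (M.R (K.F.x * e * (K.F.x * e))).trace = (Ctx.matX * E * (Ctx.matX * E)).trace := by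
      simp only [map_mul, M.R_x, hE]
    by_cases h1 : K.F.x * e * (K.F.x * e) = 1
    · refine ⟨6, ?_, by norm_num, le_rfl⟩
      rw [← htr, h1, map_one, Matrix.trace_one, Fintype.card_fin]
      norm_num
    · obtain ⟨k, hk, h2, h3⟩ := trace_range M
        (mul_mem (mul_mem K.x_mem he.mem) (mul_mem K.x_mem he.mem)) h1
      exact ⟨k, htr ▸ hk, h2, by omega⟩

end Ctx

end CfsgLib.Char.GTwoTwo
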