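import Cfsg.Agent.Lib.Char.GTwoTwo.Centralizer

/-!
# The generating triple
-/

set_option autoImplicit false
set_option linter.all false

open Subgroup

namespace CfsgLib.Char.GTwoTwo

universe u

variable {G : Type u} [Group G] [Finite G]

namespace Ctx

variable (K : Ctx G)

theorem card_T_inf_norm : Nat.card ↥(K.T ⊓ normalizer (zpowers K.F.x : Set G)) = 21 := by
  haveI := K.normal
  set N := normalizer (zpowers K.F.x : Set G)
  have h1 := card_mul_index (K.T.subgroupOf N)
  rw [← inf_subgroupOf_right, Nat.card_congr (subgroupOfEquivOfLe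
    (show K.T ⊓ N ≤ N from inf_le_right)).toEquiv, inf_subgroupOf_right, K.F.normCard] at h1
  have h2 : (K.T.subgroupOf N).index ∣ 2 := K.index_T ▸ relIndex_dvd_index_of_normal K.T N
  rcases (Nat.dvd_prime Nat.prime_two).1 h2 with e | e
  · exfalso
    refine K.u_not ((subgroupOf_eq_top.1 (index_eq_one.1 e)) ?_)
    have hy : K.F.y ∈ N := by
      refine mem_normalizer_iff_map_conj_eq.2 ?_
      rw [MonoidHom.map_zpowers]
      refine le_antisymm (zpowers_le.2 ?_) (zpowers_le.2 ?_)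
      · simp [MulAut.conj_apply, K.F.conj]
      · refine mem_zpowers_iff.2 ⟨5, ?_⟩
        simp only [MonoidHom.coe_coe, MulEquiv.coe_toMonoidHom, MulAut.conj_apply, K.F.conj]
        rw [show (5 : ℤ) = ((5 : ℕ) : ℤ) from rfl, zpow_natCast, ← pow_mul, ← pow_mod_orderOf, K.F.hx]
        norm_num
    exact pow_mem hy 3
  · rw [e] at h1; omega

theorem T_inf_norm_le (L : Subgroup G) (hx : K.F.x ∈ L) (hs : K.F.y ^ 2 ∈ L) :
    K.T ⊓ normalizer (zpowers K.F.x : Set G) ≤ L := by
  rintro g ⟨hgT, hgN⟩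
  obtain ⟨i, j, hj, rfl⟩ := K.F.norm g (((mem_normalizer_iff.1 hgN) K.F.x).1 (mem_zpowers _))
  replace hgT : K.F.x ^ i * K.F.y ^ j ∈ K.T := hgT
  rw [K.mul_mem_iff, K.y_pow_mem] at hgT
  have hev : j % 2 = 0 := hgT.1 (pow_mem K.x_mem i)
  rw [show j = 2 * (j / 2) by omega, pow_mul]
  exact mul_mem (pow_mem hx i) (pow_mem hs _)

theorem seven_in_norm {g : G} (hg : orderOf g = 7) (hN : g ∈ normalizer (zpowers K.F.x : Set G)) :
    g ∈ zpowers K.F.x := by
  haveI : Fact (Nat.Prime 7) := ⟨by norm_num⟩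
  let S : Sylow 7 G := Sylow.ofCard (zpowers K.F.x)
    (by rw [Nat.card_zpowers, K.F.hx, K.h.card, fac_seven, pow_one])
  have hp : IsPGroup 7 (zpowers g) := IsPGroup.of_card (n := 1) (by rw [Nat.card_zpowers, hg, pow_one])
  have h := hp.inf_normalizer_sylow S
  rw [inf_eq_left.2 (zpowers_le.2 (show g ∈ normalizer (S : Set G) from hN))] at h
  exact (show zpowers g ≤ (S : Subgroup G) from h.le.trans inf_le_right) (mem_zpowers g)

theorem third_not_norm {e : G} (he : K.Third e) : e ∉ normalizer (zpowers K.F.x : Set G) := by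
  intro h
  have h2 := orderOf_dvd_natCard _ (show e ∈ K.T ⊓ normalizer (zpowers K.F.x : Set G) from ⟨he.mem, h⟩)
  rw [K.card_T_inf_norm, orderOf_eq_prime (by rw [pow_two]; exact he.sq) he.ne] at h2
  norm_num at h2

/-- The triple generates. -/
theorem generate {e : G} (he : K.Third e) : closure ({K.F.x, K.F.y, e} : Set G) = ⊤ := by
  classical
  haveI : Fact (Nat.Prime 7) := ⟨by norm_num⟩
  haveI := K.normal
  haveI := K.simple
  set L := closure ({K.F.x, K.F.y, e} : Set G) with hL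
  have hxL : K.F.x ∈ L := subset_closure (by simp)
  have hyL : K.F.y ∈ L := subset_closure (by simp)
  have heL : e ∈ L := subset_closure (by simp)
  set L0 : Subgroup G := L ⊓ K.T with hL0
  set x' : L0 := ⟨K.F.x, hxL, K.x_mem⟩ with hx'
  have hx'o : orderOf x' = 7 := (Subgroup.orderOf_mk _ _).trans K.F.hx
  set s := K.F.y ^ 2 with hs
  set u := K.F.y ^ 3 with hu
  have hsL : s ∈ L0 := ⟨pow_mem hyL 2, K.s_mem⟩
  have he0 : e ∈ L0 := ⟨heL, he.mem⟩
  suffices hT : K.T ≤ L by
    refine eq_top_iff.2 fun g _ => ?_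
    by_cases hg : g ∈ K.T
    · exact hT hg
    · have : g * K.F.y ∈ K.T := by rw [K.mul_mem_iff]; exact iff_of_false hg K.y_not
      simpa using mul_mem (hT this) (inv_mem hyL)
  have hd : Nat.card L0 ∣ 6048 := K.card_T ▸ card_dvd_of_le inf_le_right
  have hfac : (Nat.card L0).factorization 7 = 1 := by
    have h1 : 7 ∣ Nat.card L0 := hx'o ▸ orderOf_dvd_natCard x'
    have h2 : ¬ 7 ^ 2 ∣ Nat.card L0 := fun h => by
      have := h.trans hd; norm_num at this
    have a1 := ((Nat.Prime.dvd_iff_one_le_factorization (by norm_num) Nat.card_pos.ne').1 h1)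
    have a2 : ¬ 2 ≤ (Nat.card L0).factorization 7 := fun e =>
      h2 ((Nat.Prime.pow_dvd_iff_le_factorization (by norm_num) Nat.card_pos.ne').2 e)
    omega
  let P0 : Sylow 7 L0 := Sylow.ofCard (zpowers x') (by rw [Nat.card_zpowers, hx'o, hfac, pow_one])
  have hP0 : (P0 : Subgroup L0) = zpowers x' := rfl
  have hnormiff : ∀ g : L0, g ∈ normalizer (P0 : Set L0) ↔ (g : G) ∈ normalizer (zpowers K.F.x : Set G) := by
    intro g
    have hmap : (P0 : Subgroup L0).map L0.subtype = zpowers K.F.x := by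
      rw [hP0, MonoidHom.map_zpowers]; rfl
    rw [show normalizer (P0 : Set L0) = normalizer ((P0 : Subgroup L0) : Set L0) from rfl,
      mem_normalizer_iff_map_conj_eq, mem_normalizer_iff_map_conj_eq, ← hmap, Subgroup.map_map,
      ← (Subgroup.map_injective L0.subtype_injective).eq_iff, Subgroup.map_map]
    rfl
  have hN21 : Nat.card (normalizer (P0 : Set L0)) = 21 := by
    rw [← K.card_T_inf_norm]
    refine Nat.card_congr (Equiv.ofBijective (fun g => ⟨((g : L0) : G), (g : L0).2.2, (hnormiff _).1 g.2⟩)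
      ⟨fun a b h => Subtype.ext (Subtype.ext (congrArg Subtype.val h :)), fun g => ?_⟩)
    have hg0 : (g : G) ∈ L0 := ⟨K.T_inf_norm_le L hxL (pow_mem hyL 2) g.2, g.2.1⟩
    exact ⟨⟨⟨g, hg0⟩, (hnormiff _).2 g.2.2⟩, rfl⟩
  have hn := card_mul_index (normalizer (P0 : Set L0))
  rw [hN21, ← P0.card_eq_index_normalizer] at hn
  set n := Nat.card (Sylow 7 L0) with hndef
  have hn288 : n ∈ Nat.divisors 288 := Nat.mem_divisors.2 ⟨by
    rw [← hn] at hd
    exact Nat.dvd_of_mul_dvd_mul_left (by norm_num : 0 < 21) (by simpa using hd), by norm_num⟩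
  have hmod : n % 7 = 1 := card_sylow_modEq_one 7 L0
  have hinvc : u⁻¹ = u := inv_eq_of_mul_eq_one_left (by
    rw [hu, ← pow_add, show 3 + 3 = orderOf K.F.y by rw [K.F.hy], pow_orderOf_eq_one])
  rcases seven_counts n hn288 hmod with h1 | h8 | h36 | h288
  · exfalso
    haveI := (Nat.card_eq_one_iff_unique.1 h1).1
    haveI hnorm : (P0 : Subgroup L0).Normal := Sylow.normal_of_subsingleton P0
    have : (⟨e, he0⟩ : L0) ∈ normalizer (P0 : Set L0) := by
      rw [show normalizer (P0 : Set L0) = normalizer ((P0 : Subgroup L0) : Set L0) from rfl,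
        normalizer_eq_top_iff.2 hnorm]
      exact Subgroup.mem_top _
    exact K.third_not_norm he ((hnormiff _).1 this)
  · exfalso
    set P1 : Sylow 7 L0 := (⟨e, he0⟩ : L0) • P0
    set e' := s * e * s⁻¹ with he'
    have he'0 : e' ∈ L0 := mul_mem (mul_mem hsL he0) (inv_mem hsL)
    set P2 : Sylow 7 L0 := (⟨e', he'0⟩ : L0) • P0
    have h3 := he.conjugate
    rw [← hs, ← he'] at h3
    have hnot : ∀ {f : G} (hf : f ∈ L0), K.Third f → (⟨f, hf⟩ : L0) • P0 ≠ P0 := fun {f} hf h h' =>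
      K.third_not_norm h ((hnormiff _).1 (Sylow.smul_eq_iff_mem_normalizer.1 h'))
    -- the orbit of `x` on the other seven
    haveI := Fintype.ofFinite (Sylow 7 L0)
    let f : Fin 7 → Sylow 7 L0 := fun i => x' ^ (i : ℕ) • P1
    have hx0 : ∀ i : ℕ, x' ^ i • P0 = P0 := fun i =>
      Sylow.smul_eq_iff_mem_normalizer.2 ((hnormiff _).2
        (le_normalizer (pow_mem (mem_zpowers K.F.x) i)))
    have hfne : ∀ i, f i ≠ P0 := fun i h => by
      apply hnot he0 he
      have := congrArg (fun Q => (x' ^ (i : ℕ))⁻¹ • Q) h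
      simp only [f, inv_smul_smul] at this
      show P1 = P0
      rw [this, inv_smul_eq_iff, hx0]
    have hfi : Function.Injective f := by
      have hstab : ∀ k : ℕ, x' ^ k • P1 = P1 → 7 ∣ k := by
        intro k hk
        by_contra h7
        have hmem : (⟨e, he0⟩ : L0)⁻¹ * x' ^ k * ⟨e, he0⟩ ∈ normalizer (P0 : Set L0) := by
          refine Sylow.smul_eq_iff_mem_normalizer.1 ?_
          rw [mul_smul, mul_smul, show ((⟨e, he0⟩ : L0) • P0) = P1 from rfl, hk]
          exact inv_smul_smul _ _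
        have h1 := (hnormiff _).1 hmem
        have hei : e⁻¹ = e := inv_eq_of_mul_eq_one_left he.sq
        simp only [Subgroup.coe_mul, Subgroup.coe_inv, SubmonoidClass.coe_pow, x'] at h1
        have ho : orderOf (e⁻¹ * K.F.x ^ k * e) = 7 := by
          rw [show e⁻¹ * K.F.x ^ k * e = e⁻¹ * K.F.x ^ k * e⁻¹⁻¹ by rw [inv_inv]]
          refine ((MulAut.conj e⁻¹).orderOf_eq (K.F.x ^ k)).trans ?_
          rw [Nat.Coprime.orderOf_pow]
          · exact K.F.hx
          · rw [K.F.hx]; exact ((Nat.prime_seven).coprime_iff_not_dvd.2 h7)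
        obtain ⟨j, hj⟩ := mem_zpowers_iff.1 (K.seven_in_norm ho h1)
        obtain ⟨t, ht⟩ : ∃ t, k * t % 7 = 1 := by
          obtain ⟨t, -, ht⟩ := (show ∀ r < 7, r ≠ 0 → ∃ t < 7, r * t % 7 = 1 by decide) (k % 7)
            (Nat.mod_lt _ (by norm_num)) (fun e => h7 (Nat.dvd_of_mod_eq_zero e))
          exact ⟨t, by rw [Nat.mul_mod, Nat.mod_mod] at ht; rw [Nat.mul_mod]; exact ht⟩
        refine K.third_not_norm he (mem_normalizer_iff_map_conj_eq.2 ?_)
        rw [MonoidHom.map_zpowers]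
        simp only [MonoidHom.coe_coe, MulEquiv.coe_toMonoidHom, MulAut.conj_apply]
        have hmem2 : e * K.F.x * e⁻¹ ∈ zpowers K.F.x := by
          refine mem_zpowers_iff.2 ⟨j * t, ?_⟩
          rw [zpow_mul, hj, zpow_natCast, hei]
          calc (e * K.F.x ^ k * e) ^ t = (e * K.F.x ^ k * e⁻¹) ^ t := by rw [hei]
            _ = e * (K.F.x ^ k) ^ t * e⁻¹ := conj_pow
            _ = e * K.F.x * e := by rw [← pow_mul, ← pow_mod_orderOf, K.F.hx, ht, pow_one, hei]
        refine eq_of_le_of_card_ge (zpowers_le.2 hmem2) ?_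
        rw [Nat.card_zpowers, Nat.card_zpowers]
        exact ((MulAut.conj e).orderOf_eq K.F.x).ge
      intro i j h
      rcases le_total (i : ℕ) (j : ℕ) with hle | hle
      · obtain ⟨d, hd'⟩ := Nat.exists_eq_add_of_le hle
        simp only [f, hd', pow_add, mul_smul] at h
        have := hstab d (smul_left_cancel _ h).symm
        exact Fin.ext (by have := i.2; have := j.2; omega)
      · obtain ⟨d, hd'⟩ := Nat.exists_eq_add_of_le hle
        simp only [f, hd', pow_add, mul_smul] at h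
        have := hstab d (smul_left_cancel _ h)
        exact Fin.ext (by have := i.2; have := j.2; omega)
    have himg : Finset.univ.image f = Finset.univ.erase P0 := by
      refine Finset.eq_of_subset_of_card_le (fun Q hQ => ?_) ?_
      · obtain ⟨i, -, rfl⟩ := Finset.mem_image.1 hQ
        exact Finset.mem_erase.2 ⟨hfne i, Finset.mem_univ _⟩
      · rw [Finset.card_erase_of_mem (Finset.mem_univ _), Finset.card_univ, ← Nat.card_eq_fintype_card,
          ← hndef, h8, Finset.card_image_of_injective _ hfi, Finset.card_univ, Fintype.card_fin]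
    have hP2 : P2 ∈ Finset.univ.erase P0 := Finset.mem_erase.2 ⟨hnot he'0 h3, Finset.mem_univ _⟩
    rw [← himg, Finset.mem_image] at hP2
    obtain ⟨i, -, hi⟩ := hP2
    have hw : (⟨e', he'0⟩ : L0)⁻¹ * x' ^ (i : ℕ) * ⟨e, he0⟩ ∈ normalizer (P0 : Set L0) := by
      refine Sylow.smul_eq_iff_mem_normalizer.1 ?_
      rw [mul_smul, mul_smul, show ((⟨e, he0⟩ : L0) • P0) = P1 from rfl,
        show x' ^ (i : ℕ) • P1 = P2 from hi]
      exact inv_smul_smul _ _
    have h1 := (hnormiff _).1 hw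
    simp only [Subgroup.coe_mul, Subgroup.coe_inv, SubmonoidClass.coe_pow, x'] at h1
    rw [inv_eq_of_mul_eq_one_left h3.sq] at h1
    set w := e' * K.F.x ^ (i : ℕ) * e with hwdef
    set N := normalizer (zpowers K.F.x : Set G) with hNdef
    have hyN : K.F.y ∈ N := by
      refine mem_normalizer_iff_map_conj_eq.2 ?_
      rw [MonoidHom.map_zpowers]
      refine le_antisymm (zpowers_le.2 ?_) (zpowers_le.2 ?_)
      · simp [MulAut.conj_apply, K.F.conj]
      · refine mem_zpowers_iff.2 ⟨5, ?_⟩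
        simp only [MonoidHom.coe_coe, MulEquiv.coe_toMonoidHom, MulAut.conj_apply, K.F.conj]
        rw [show (5 : ℤ) = ((5 : ℕ) : ℤ) from rfl, zpow_natCast, ← pow_mul, ← pow_mod_orderOf, K.F.hx]
        norm_num
    have h2 : e' * (K.F.x ^ (i : ℕ))⁻¹ * e ∈ N := by
      have hm := mul_mem (mul_mem (pow_mem hyN 3) h1) (inv_mem (pow_mem hyN 3))
      convert hm using 1
      have e1 : u * e' * u⁻¹ = e' := mul_inv_eq_iff_eq_mul.2 h3.comm_u.symm
      have e2 : u * e * u⁻¹ = e := mul_inv_eq_iff_eq_mul.2 he.comm_u.symm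
      have e3 : u * K.F.x ^ (i : ℕ) * u⁻¹ = (K.F.x ^ (i : ℕ))⁻¹ := by rw [← conj_pow, K.u_inv, inv_pow]
      rw [← hu, hwdef]
      calc e' * (K.F.x ^ (i : ℕ))⁻¹ * e = (u * e' * u⁻¹) * (u * K.F.x ^ (i : ℕ) * u⁻¹) * (u * e * u⁻¹) := by
            rw [e1, e2, e3]
        _ = u * (e' * K.F.x ^ (i : ℕ) * e) * u⁻¹ := by group
    have h4 : e' * (K.F.x ^ (i : ℕ) * K.F.x ^ (i : ℕ)) * e'⁻¹ ∈ N := by
      have := mul_mem h1 (inv_mem h2)
      convert this using 1
      rw [hwdef]; group
    by_cases hi0 : (i : ℕ) = 0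
    · rw [hwdef, hi0, pow_zero, mul_one] at h1
      have hmem : e' * e ∈ K.T ⊓ N := ⟨mul_mem h3.mem he.mem, h1⟩
      have h5 := orderOf_dvd_natCard _ hmem
      rw [hNdef, K.card_T_inf_norm, orderOf_eq_prime (p := 2) ?_ ?_] at h5
      · norm_num at h5
      · rw [pow_two]
        have hc : e * e' = e' * e := he.comm
        calc e' * e * (e' * e) = e' * (e * e') * e := by group
          _ = (e' * e') * (e * e) := by rw [hc]; group
          _ = 1 := by rw [h3.sq, he.sq, one_mul]
      · intro h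
        exact he.conj_ne ((mul_eq_one_iff_eq_inv.1 h).trans (inv_eq_of_mul_eq_one_left he.sq))
    · have ho : orderOf (e' * (K.F.x ^ (i : ℕ) * K.F.x ^ (i : ℕ)) * e'⁻¹) = 7 := by
        refine ((MulAut.conj e').orderOf_eq _).trans ?_
        rw [← pow_add, Nat.Coprime.orderOf_pow, K.F.hx]
        rw [K.F.hx]
        exact (Nat.prime_seven).coprime_iff_not_dvd.2 (by have := i.2; omega)
      refine K.third_not_norm h3 ?_
      obtain ⟨j, hj⟩ := mem_zpowers_iff.1 (K.seven_in_norm ho h4)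
      rw [mem_normalizer_iff_map_conj_eq, MonoidHom.map_zpowers]
      simp only [MonoidHom.coe_coe, MulEquiv.coe_toMonoidHom, MulAut.conj_apply]
      obtain ⟨t, ht⟩ : ∃ t, ((i : ℕ) + i) * t % 7 = 1 :=
        (show ∀ r : Fin 7, (r : ℕ) ≠ 0 → ∃ t, ((r : ℕ) + r) * t % 7 = 1 from fun r hr => by
          obtain ⟨t, -, ht⟩ := (show ∀ r : Fin 7, (r : ℕ) ≠ 0 → ∃ t < 7, ((r : ℕ) + r) * t % 7 = 1 by decide) r hr
          exact ⟨t, ht⟩) i hi0
      refine eq_of_le_of_card_ge (zpowers_le.2 (mem_zpowers_iff.2 ⟨j * t, ?_⟩)) ?_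
      · rw [zpow_mul, hj, zpow_natCast, conj_pow, ← pow_add, ← pow_mul, ← pow_mod_orderOf, K.F.hx, ht,
          pow_one]
      · rw [Nat.card_zpowers, Nat.card_zpowers]
        exact ((MulAut.conj e').orderOf_eq K.F.x).ge
  · exfalso
    rw [h36] at hn
    haveI : Finite K.T := inferInstance
    have hidx : (L0.subgroupOf K.T).index = 8 := by
      have := card_mul_index (L0.subgroupOf K.T)
      rw [Nat.card_congr (subgroupOfEquivOfLe (show L0 ≤ K.T from inf_le_right)).toEquiv, K.card_T,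
        ← hn] at this
      omega
    have hne : L0.subgroupOf K.T ≠ ⊤ := fun h => by rw [h, index_top] at hidx; norm_num at hidx
    have := CfsgLib.Perm.PrimeBlock.index_dvd_factorial_twice (G := K.T) (fun hc => by
      have h1 := hc.is_comm.comm (⟨K.F.x, K.x_mem⟩ : K.T) ⟨s, K.s_mem⟩
      have h2 := conj_pow_eq K.F.conj 2
      have h1' : K.F.x * s = s * K.F.x := congrArg Subtype.val h1
      rw [← hs, mul_inv_eq_iff_eq_mul.2 h1'.symm] at h2
      nth_rewrite 1 [← pow_one K.F.x] at h2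
      rw [pow_eq_pow_iff_modEq, K.F.hx] at h2
      exact absurd h2 (by decide)) hne
    rw [hidx, K.card_T] at this
    norm_num [Nat.factorial] at this
  · rw [h288] at hn
    have hc : Nat.card L0 = 6048 := by omega
    have := eq_of_le_of_card_ge (show L0 ≤ K.T from inf_le_right) (by rw [hc, K.card_T])
    rw [← this]
    exact inf_le_left

end Ctx

end CfsgLib.Char.GTwoTwo
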