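import Cfsg.Agent.Lib.Char.GTwoTwo.Solve

/-!
# Uniqueness of a group with the order and spectrum of `G₂(2)`
-/

set_option autoImplicit false
set_option linter.all false

open Matrix Subgroup

namespace CfsgLib.Char.GTwoTwo

universe u v

namespace Ctx

open Cubic

/-- The third generator has the standard even block. -/
def Normal (E : Matrix (Fin 6) (Fin 6) ℂ) : Prop :=
  ∀ i j : Fin 3, (7 : ℂ) * E (evIdx i) (evIdx j) = ev (Cubic.std i j)

/-- The diagonal signs. -/
def sgnD : Matrix (Fin 6) (Fin 6) ℂ := Matrix.diagonal sgn6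

theorem sgnD_sq : sgnD * sgnD = 1 := by
  rw [sgnD, Matrix.diagonal_mul_diagonal, ← Matrix.diagonal_one]
  congr 1
  funext i
  fin_cases i <;> simp [sgn6]

theorem sgnD_conj (E : Matrix (Fin 6) (Fin 6) ℂ) (i j : Fin 6) :
    (sgnD * E * sgnD) i j = sgn6 i * E i j * sgn6 j := by
  rw [sgnD, Matrix.mul_diagonal, Matrix.diagonal_mul]

theorem sgnD_x : sgnD * Ctx.matX * sgnD = Ctx.matX := by
  ext i j
  rw [sgnD_conj, Ctx.matX, Matrix.diagonal_apply]
  by_cases h : i = j
  · subst h
    rw [if_pos rfl]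
    fin_cases i <;> simp [sgn6]
  · rw [if_neg h]
    simp

theorem sgnD_y : sgnD * Ctx.matY * sgnD = -Ctx.matY := by
  ext i j
  rw [sgnD_conj, Matrix.neg_apply, Ctx.matY]
  fin_cases i <;> fin_cases j <;> simp [sgn6]

theorem sgnD_nine (d0 d1 d2 f0 f1 f2 q01 q02 q12 : ℂ) :
    sgnD * nineForm d0 d1 d2 f0 f1 f2 q01 q02 q12 * sgnD =
      nineForm d0 d1 d2 f0 f1 f2 (-q01) (-q02) (-q12) := by
  ext i j
  rw [sgnD_conj]
  fin_cases i <;> fin_cases j <;> simp [nineForm, sgn6]

/-- Two standard solutions differ by the signs at most. -/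
theorem normal_unique {E E' : Matrix (Fin 6) (Fin 6) ℂ} (h : MatProps E) (h' : MatProps E')
    (hN : Normal E) (hN' : Normal E') : E' = E ∨ E' = sgnD * E * sgnD := by
  have hb : ∀ i j, E' (evIdx i) (evIdx j) = E (evIdx i) (evIdx j) := fun i j =>
    mul_left_cancel₀ (by norm_num : (7 : ℂ) ≠ 0) ((hN' i j).trans (hN i j).symm)
  have e0 : E' 0 0 = E 0 0 := hb 0 0
  have e1 : E' 2 2 = E 2 2 := hb 1 1
  have e2 : E' 4 4 = E 4 4 := hb 2 2
  have e3 : E' 4 0 = E 4 0 := hb 2 0
  have e4 : E' 0 2 = E 0 2 := hb 0 1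
  have e5 : E' 2 4 = E 2 4 := hb 1 2
  have n00 : (7 : ℂ) * E 0 0 = ev (dTri (1, 1, -1) 0) := hN 0 0
  have n20 : (7 : ℂ) * E 4 0 = ev (fTri (1, -1, 0) 0) := hN 2 0
  have n01 : (7 : ℂ) * E 0 2 = ev (fTri (1, -1, 0) 1) := hN 0 1
  have hn := h.nine
  have hn' := h'.nine
  have S := sol_of_sq _ _ _ _ _ _ _ _ _ (hn ▸ h.sq)
  have S' := sol_of_sq _ _ _ _ _ _ _ _ _ (hn' ▸ h'.sq)
  rw [e0, e1, e2, e3, e4, e5] at hn' S'
  generalize E 0 0 = d0, E 2 2 = d1, E 4 4 = d2, E 4 0 = f0, E 0 2 = f1, E 2 4 = f2, E 3 2 = q01,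
    E 3 4 = q02, E 5 4 = q12, E' 3 2 = r01, E' 3 4 = r02, E' 5 4 = r12 at hn hn' S S' n00 n20 n01
  subst hn hn'
  have s01 : r01 * r01 = q01 * q01 := by
    linear_combination (2 : ℂ)⁻¹ * (S.e00 + S.e11 - S.e22) - (2 : ℂ)⁻¹ * (S'.e00 + S'.e11 - S'.e22)
  have s02 : r02 * r02 = q02 * q02 := by
    linear_combination (2 : ℂ)⁻¹ * (S.e00 - S.e11 + S.e22) - (2 : ℂ)⁻¹ * (S'.e00 - S'.e11 + S'.e22)
  have p01 : r02 * r12 = q02 * q12 := S'.e01.trans S.e01.symm
  have p02 : r01 * r12 = q01 * q12 := S'.e02.trans S.e02.symm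
  have p12 : r01 * r02 = q01 * q02 := S'.e12.trans S.e12.symm
  have hne : q01 ≠ 0 ∨ q02 ≠ 0 := by
    by_contra hq
    push Not at hq
    obtain ⟨rfl, rfl⟩ := hq
    refine ne_zero_of_nz std_nonzero ?_
    simp only [rTri, ev_sub, ev_add, ev_mul, ev_cst, ← n00, ← n20, ← n01]
    push_cast
    linear_combination (-49 : ℂ) * S.e00
  rcases hne with hq | hq
  · rcases mul_self_eq_mul_self_iff.1 s01 with rfl | rfl
    · left
      rw [mul_left_cancel₀ hq p12, mul_left_cancel₀ hq p02]
    · right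
      rw [neg_mul, ← mul_neg] at p12 p02
      rw [sgnD_nine, ← mul_left_cancel₀ hq p12, ← mul_left_cancel₀ hq p02, neg_neg, neg_neg]
  · rcases mul_self_eq_mul_self_iff.1 s02 with rfl | rfl
    · left
      rw [mul_comm r01, mul_comm q01] at p12
      rw [mul_left_cancel₀ hq p12, mul_left_cancel₀ hq p01]
    · right
      rw [mul_comm r01, mul_comm q01, neg_mul, ← mul_neg] at p12
      rw [neg_mul, ← mul_neg] at p01
      rw [sgnD_nine, ← mul_left_cancel₀ hq p12, ← mul_left_cancel₀ hq p01, neg_neg, neg_neg]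

variable {G : Type u} [Group G] [Finite G] {K : Ctx G} (M : Rep K)

theorem conj_entries (e : G) (i j : Fin 6) :
    M.R (K.F.y ^ 2 * e * (K.F.y ^ 2)⁻¹) i j = M.R e (i + 4) (j + 4) := by
  have hinv : (K.F.y ^ 2)⁻¹ = K.F.y ^ 4 := by
    refine inv_eq_of_mul_eq_one_left ?_
    rw [← pow_add]
    have h6 := pow_orderOf_eq_one K.F.y
    rw [K.F.hy] at h6
    exact h6
  rw [hinv, map_mul, map_mul, map_pow, map_pow, M.R_y, Matrix.mul_apply,
    Finset.sum_eq_single (j + 4)]
  · rw [Matrix.mul_apply, Finset.sum_eq_single (i + 4)]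
    · rw [matY_pow, matY_pow, if_pos (by rw [add_assoc]; simp), if_pos (by norm_num), one_mul, mul_one]
    · intro k _ hk
      rw [matY_two, if_neg (fun e => hk (by rw [e, add_assoc]; simp)), zero_mul]
    · intro h; exact absurd (Finset.mem_univ _) h
  · intro k _ hk
    rw [matY_pow, if_neg (fun e => hk (by simpa using e)), mul_zero]
  · intro h; exact absurd (Finset.mem_univ _) h

theorem exists_normal : ∃ e : G, K.Third e ∧ Normal (M.R e) := by
  obtain ⟨e, he⟩ := exists_third M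
  obtain ⟨c, hc⟩ := (third_props M he).block
  have key : ∀ c i : Fin 3, (c = 0 → evIdx i = evIdx (i + c)) ∧
      (c = 2 → evIdx i + 4 = evIdx (i + c)) ∧ (c = 1 → evIdx i + 4 + 4 = evIdx (i + c)) := by decide
  rcases ((by decide : ∀ c : Fin 3, c = 0 ∨ c = 2 ∨ c = 1) c) with h | h | h
  · exact ⟨e, he, fun i j => by rw [(key c i).1 h, (key c j).1 h]; exact hc i j⟩
  · refine ⟨_, he.conjugate, fun i j => ?_⟩
    rw [conj_entries, (key c i).2.1 h, (key c j).2.1 h]
    exact hc i j
  · refine ⟨_, he.conjugate.conjugate, fun i j => ?_⟩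
    rw [conj_entries, conj_entries, (key c i).2.2 h, (key c j).2.2 h]
    exact hc i j

/-- The twist of the representation by the sign character and the diagonal signs. -/
noncomputable def twist : G →* Matrix (Fin 6) (Fin 6) ℂ where
  toFun g := (K.sg g : ℂ) • (sgnD * M.R g * sgnD)
  map_one' := by simp [sgnD_sq]
  map_mul' a b := by
    rw [smul_mul_smul_comm, map_mul, map_mul, Units.val_mul]
    congr 1
    rw [show sgnD * M.R a * sgnD * (sgnD * M.R b * sgnD) = sgnD * M.R a * (sgnD * sgnD) * M.R b * sgnD by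
      simp only [Matrix.mul_assoc], sgnD_sq, Matrix.mul_one]
    simp only [Matrix.mul_assoc]

theorem twist_apply (g : G) : twist M g = (K.sg g : ℂ) • (sgnD * M.R g * sgnD) := rfl

theorem twist_mem {g : G} (hg : g ∈ K.T) : twist M g = sgnD * M.R g * sgnD := by
  rw [twist_apply, K.sg_mem hg, Units.val_one, one_smul]

theorem twist_x : twist M K.F.x = Ctx.matX := by
  rw [twist_mem M K.x_mem, M.R_x, sgnD_x]

theorem twist_y : twist M K.F.y = Ctx.matY := by
  rw [twist_apply, K.sg_not K.y_not, M.R_y, sgnD_y]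
  simp

theorem twist_inj : Function.Injective (twist M) := by
  intro a b hab
  suffices h : ∀ g, twist M g = 1 → g = 1 by
    refine inv_mul_eq_one.1 (h _ ?_)
    rw [map_mul, ← hab, ← map_mul, inv_mul_cancel, map_one]
  intro g hg
  have hR : (K.sg g : ℂ) • M.R g = 1 := by
    have h1 := congrArg (fun A => sgnD * A * sgnD) hg
    simp only [twist_apply, Matrix.mul_smul, Matrix.smul_mul, Matrix.mul_one, sgnD_sq] at h1
    rwa [show sgnD * (sgnD * M.R g * sgnD) * sgnD = sgnD * sgnD * M.R g * (sgnD * sgnD) by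
      simp only [Matrix.mul_assoc], sgnD_sq, Matrix.one_mul, Matrix.mul_one] at h1
  have hcomm : g * K.F.x = K.F.x * g := by
    refine M.inj ?_
    rw [map_mul, map_mul]
    have h2 : ((K.sg g : ℂ) • M.R g) * M.R K.F.x = M.R K.F.x * ((K.sg g : ℂ) • M.R g) := by
      rw [hR, Matrix.one_mul, Matrix.mul_one]
    rw [Matrix.smul_mul, Matrix.mul_smul] at h2
    exact smul_right_injective _ (Units.ne_zero _) h2
  have hgT : g ∈ K.T := (zpowers_le.2 K.x_mem) (K.h.cent K.F.hx hcomm)
  rw [K.sg_mem hgT, Units.val_one, one_smul] at hR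
  exact M.inj (hR.trans (map_one M.R).symm)

end Ctx

theorem map_top_eq {G : Type u} [Group G] {H : Type v} [Group H] (f : G →* H) {a b c : G}
    (h : Subgroup.closure ({a, b, c} : Set G) = ⊤) : f.range = Subgroup.closure {f a, f b, f c} := by
  rw [MonoidHom.range_eq_map, ← h, MonoidHom.map_closure, Set.image_insert_eq, Set.image_insert_eq,
    Set.image_singleton]

theorem nonempty_iso {G : Type u} [Group G] {H : Type v} [Group H]
    (f : G →* Matrix (Fin 6) (Fin 6) ℂ) (g : H →* Matrix (Fin 6) (Fin 6) ℂ)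
    (hf : Function.Injective f) (hg : Function.Injective g) {a b c : G} {a' b' c' : H}
    (hG : Subgroup.closure ({a, b, c} : Set G) = ⊤) (hH : Subgroup.closure ({a', b', c'} : Set H) = ⊤)
    (ha : f a = g a') (hb : f b = g b') (hc : f c = g c') : Nonempty (G ≃* H) := by
  have hf' : Function.Injective f.toHomUnits := fun x y e => hf (congrArg Units.val e)
  have hg' : Function.Injective g.toHomUnits := fun x y e => hg (congrArg Units.val e)
  have e : f.toHomUnits.range = g.toHomUnits.range := by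
    rw [map_top_eq _ hG, map_top_eq _ hH,
      show f.toHomUnits a = g.toHomUnits a' from Units.ext ha,
      show f.toHomUnits b = g.toHomUnits b' from Units.ext hb,
      show f.toHomUnits c = g.toHomUnits c' from Units.ext hc]
  exact ⟨((MonoidHom.ofInjective hf').trans (MulEquiv.subgroupCongr e)).trans (MonoidHom.ofInjective hg').symm⟩

/-- A group with the order and spectrum of `G₂(2)` is determined up to isomorphism. -/
theorem iso_of_hyp {G : Type u} [Group G] {H : Type v} [Group H] (hG : Hyp G) (hH : Hyp H) :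
    Nonempty (G ≃* H) := by
  haveI : Finite G := Nat.finite_of_card_ne_zero (by rw [hG.card]; norm_num)
  haveI : Finite H := Nat.finite_of_card_ne_zero (by rw [hH.card]; norm_num)
  obtain ⟨K⟩ := hG.exists_ctx
  obtain ⟨L⟩ := hH.exists_ctx
  obtain ⟨M⟩ := K.exists_rep
  obtain ⟨N⟩ := L.exists_rep
  obtain ⟨e, he, hne⟩ := Ctx.exists_normal M
  obtain ⟨d, hd, hnd⟩ := Ctx.exists_normal N
  rcases Ctx.normal_unique (Ctx.third_props N hd) (Ctx.third_props M he) hnd hne with h | h
  · exact nonempty_iso M.R N.R M.inj N.inj (K.generate he) (L.generate hd) (M.R_x.trans N.R_x.symm)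
      (M.R_y.trans N.R_y.symm) h
  · refine nonempty_iso M.R (Ctx.twist N) M.inj (Ctx.twist_inj N) (K.generate he) (L.generate hd)
      (M.R_x.trans (Ctx.twist_x N).symm) (M.R_y.trans (Ctx.twist_y N).symm) ?_
    rw [Ctx.twist_mem N hd.mem]
    exact h

end CfsgLib.Char.GTwoTwo
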