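import Cfsg.Agent.Lib.Char.GTwoTwo.Structure
import Cfsg.Agent.Lib.Lie.Chev.Small.G2Two

/-!
# `G₂(2)` has the expected order and spectrum
-/

set_option autoImplicit false
set_option linter.all false
set_option maxRecDepth 100000

namespace CfsgLib.Char.GTwoTwo.Model

open Cfsg.Lie
open CfsgLib.Char CfsgLib.Lie.Chev.Small.G2Two
open CfsgLib.Char.SU33 (gCode mulM oneM codeOf Root classOf repCode repTab)

/-- The code of a power. -/
def powC (A : ℕ) : ℕ → ℕ
  | 0 => oneM
  | n + 1 => mulM (powC A n) A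

theorem rep_orders : ∀ k < 14, (k = 5 ∨ k = 7 → powC (repCode k) 7 = oneM) ∧
    (k ≠ 5 → k ≠ 7 → powC (repCode k) 12 = oneM ∨ powC (repCode k) 8 = oneM) := by
  decide +kernel

theorem rep_four : ¬ powC (repCode 0) 2 = oneM ∧ powC (repCode 0) 4 = oneM := by decide +kernel

theorem rep_one : classOf oneM = 9 := by decide +kernel

/-- The product of two codes of images. -/
def mulG (A B : ℕ) : ℕ :=
  (List.range 14).foldl (fun acc i => acc + ((rowMul (row A i) B 14) <<< (14 * i))) 0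

theorem root_check :
    (isMul (rootTab.getD 2 0) (imgC 583) (mulG (rootTab.getD 2 0) (imgC 583)) = true ∧
      isMul (imgC 634) (rootTab.getD 2 0) (mulG (rootTab.getD 2 0) (imgC 583)) = true) ∧
    (isMul (rootTab.getD 2 0) (imgC 592) (mulG (rootTab.getD 2 0) (imgC 592)) = true ∧
      isMul (imgC 5541) (rootTab.getD 2 0) (mulG (rootTab.getD 2 0) (imgC 592)) = true) := by
  decide +kernel

theorem class_check : gCode 583 = repCode 5 ∧ gCode 592 = repCode 7 ∧ classOf (gCode 634) = 7 ∧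
    classOf (gCode 5541) = 5 ∧ classOf (repCode 5) = 5 ∧ classOf (repCode 7) = 7 := by
  decide +kernel

variable {F : Type*} [Field F] (R : Root F)

theorem codeOf_pow (y : ↥(Cfsg.SU 3 F 3)) : ∀ n, codeOf R (y ^ n) = powC (codeOf R y) n := by
  intro n
  induction n with
  | zero => rw [pow_zero, SU33.codeOf_one]; rfl
  | succ n ih => rw [pow_succ, SU33.codeOf_mul, ih]; rfl

theorem pow_eq_one {y : ↥(Cfsg.SU 3 F 3)} {n : ℕ} (h : powC (codeOf R y) n = oneM) : y ^ n = 1 :=
  SU33.codeOf_injective R (by rw [codeOf_pow, h, SU33.codeOf_one])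

include R in
theorem order_cases (y : ↥(Cfsg.SU 3 F 3)) :
    (∃ (k : Fin 14) (c : ↥(Cfsg.SU 3 F 3)), (k.val = 5 ∨ k.val = 7) ∧ y = c * SU33.rep R k * c⁻¹ ∧ orderOf y = 7) ∨
      orderOf y ∣ 12 ∨ orderOf y ∣ 8 := by
  obtain ⟨k, c, hk, rfl⟩ := SU33.exists_conj_rep R y
  have ho : orderOf (c * SU33.rep R k * c⁻¹) = orderOf (SU33.rep R k) := (MulAut.conj c).orderOf_eq _
  obtain ⟨h1, h2⟩ := rep_orders k.val k.isLt
  by_cases h57 : k.val = 5 ∨ k.val = 7
  · refine Or.inl ⟨k, c, h57, rfl, ?_⟩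
    haveI : Fact (Nat.Prime 7) := ⟨by norm_num⟩
    refine ho.trans (orderOf_eq_prime (pow_eq_one R (by rw [SU33.codeOf_rep]; exact h1 h57)) fun e => ?_)
    have h9 := SU33.codeOf_rep R k
    rw [e, SU33.codeOf_one] at h9
    rcases h57 with h | h <;> rw [h] at h9 <;> have := rep_one <;> rw [h9] at this <;>
      simp [class_check] at this
  · push Not at h57
    rw [ho]
    rcases h2 h57.1 h57.2 with h | h
    · exact Or.inr (Or.inl (orderOf_dvd_of_pow_eq_one (pow_eq_one R (by rw [SU33.codeOf_rep]; exact h))))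
    · exact Or.inr (Or.inr (orderOf_dvd_of_pow_eq_one (pow_eq_one R (by rw [SU33.codeOf_rep]; exact h))))

/-- The group `G₂(2)` satisfies the hypotheses. -/
theorem hyp_model [Fintype F] (R : Root F) (hK : Fintype.card F = 9)
    (h12096 : Nat.card ↥(chevG2.group (ZMod 2)) = 12096) : Hyp ↥(chevG2.group (ZMod 2)) := by
  classical
  obtain ⟨f, hinj, hidx, hmat⟩ := exists_embedding R hK h12096
  obtain ⟨C⟩ := CfsgLib.Lie.Chev.nonempty_full (D := chevG2) (by simp)
  let r : ↥(chevG2.group (ZMod 2)) := ⟨C.G.xu ⟨2, by decide⟩ 1, C.G.xu_mem _ _⟩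
  have hr : ((r : GL chevG2.Idx (ZMod 2)) : Matrix chevG2.Idx chevG2.Idx (ZMod 2)) =
      dec (rootTab.getD 2 0) := by
    rw [base_check.2.2.2.2.2.2.2.2 ⟨2, by norm_num⟩]
    exact (C.G.x_eq_xu _ _).symm
  have hconj : ∀ (i j : Fin 6048), isMul (rootTab.getD 2 0) (imgC i.1) (mulG (rootTab.getD 2 0) (imgC i.1)) = true →
      isMul (imgC j.1) (rootTab.getD 2 0) (mulG (rootTab.getD 2 0) (imgC i.1)) = true →
      r * f (SU33.elem R i) * r⁻¹ = f (SU33.elem R j) := by
    intro i j h1 h2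
    rw [mul_inv_eq_iff_eq_mul]
    refine Subtype.ext (Units.ext ?_)
    rw [Subgroup.coe_mul, Subgroup.coe_mul, Units.val_mul, Units.val_mul, hr, hmat, hmat, mapMat_elem,
      mapMat_elem, ← dec_mul h1, ← dec_mul h2]
  obtain ⟨⟨a1, a2⟩, b1, b2⟩ := root_check
  obtain ⟨c5, c7, d5, d7, e5, e7⟩ := class_check
  have hstep : ∀ k : Fin 14, k.val = 5 ∨ k.val = 7 → ∃ w, r * f (SU33.rep R k) * r⁻¹ = f w ∧
      classOf (codeOf R w) ≠ classOf (codeOf R (SU33.rep R k)) := by
    intro k hk
    rcases hk with h | h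
    · refine ⟨SU33.elem R ⟨634, by norm_num⟩, ?_, ?_⟩
      · rw [show SU33.rep R k = SU33.elem R ⟨583, by norm_num⟩ from SU33.codeOf_injective R (by
          rw [SU33.codeOf_rep, SU33.codeOf_elem, h, c5])]
        exact hconj _ _ a1 a2
      · rw [SU33.codeOf_elem, SU33.codeOf_rep, h, e5]
        rw [show classOf (gCode (⟨634, by norm_num⟩ : Fin 6048).1) = 7 from d5]
        norm_num
    · refine ⟨SU33.elem R ⟨5541, by norm_num⟩, ?_, ?_⟩
      · rw [show SU33.rep R k = SU33.elem R ⟨592, by norm_num⟩ from SU33.codeOf_injective R (by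
          rw [SU33.codeOf_rep, SU33.codeOf_elem, h, c7])]
        exact hconj _ _ b1 b2
      · rw [SU33.codeOf_elem, SU33.codeOf_rep, h, e7]
        rw [show classOf (gCode (⟨5541, by norm_num⟩ : Fin 6048).1) = 5 from d7]
        norm_num
  have hrT : r ∉ f.range := by
    rintro ⟨t, ht⟩
    obtain ⟨w, hw, hne⟩ := hstep ⟨5, by norm_num⟩ (Or.inl rfl)
    rw [← ht, ← map_inv, ← map_mul, ← map_mul] at hw
    exact hne (by rw [← hinj hw, SU33.classOf_conj])
  have hmul : ∀ a b, a * b ∈ f.range ↔ (a ∈ f.range ↔ b ∈ f.range) := fun a b =>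
    Subgroup.mul_mem_iff_of_index_two hidx
  have nocent : ∀ (c : ↥(chevG2.group (ZMod 2))), c ∉ f.range → ∀ y, orderOf y = 7 →
      c * f y ≠ f y * c := by
    intro c hc y hy he
    rcases order_cases R y with ⟨k, d, hk, rfl, -⟩ | h | h
    · obtain ⟨w, hw, hne⟩ := hstep k hk
      have he' : ((f d)⁻¹ * c * f d) * f (SU33.rep R k) = f (SU33.rep R k) * ((f d)⁻¹ * c * f d) := by
        have h1 := congrArg (fun z => (f d)⁻¹ * z * f d) he
        simp only [map_mul, map_inv] at h1
        calc _ = (f d)⁻¹ * (c * (f d * f (SU33.rep R k) * (f d)⁻¹)) * f d := by group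
          _ = (f d)⁻¹ * (f d * f (SU33.rep R k) * (f d)⁻¹ * c) * f d := h1
          _ = _ := by group
      set c' := (f d)⁻¹ * c * f d
      have hfd : f d ∈ f.range := ⟨d, rfl⟩
      have hc' : c' ∉ f.range := fun h => hc (by
        have := mul_mem (mul_mem hfd h) (inv_mem hfd)
        rwa [show f d * ((f d)⁻¹ * c * f d) * (f d)⁻¹ = c by group] at this)
      obtain ⟨t, ht⟩ : r * c' ∈ f.range := (hmul r c').2 (iff_of_false hrT hc')
      have : f (t * SU33.rep R k * t⁻¹) = f w := by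
        rw [map_mul, map_mul, map_inv, ht, ← hw, mul_assoc r c', he']
        group
      exact hne (by rw [← hinj this, SU33.classOf_conj])
    · rw [hy] at h; norm_num at h
    · rw [hy] at h; norm_num at h
  have horder : ∀ y, orderOf (f y) = orderOf y := orderOf_injective f hinj
  have bad : ∀ y : ↥(Cfsg.SU 3 F 3), orderOf y ≠ 14 ∧ orderOf y ≠ 21 := by
    intro y
    rcases order_cases R y with ⟨-, -, -, -, h⟩ | h | h
    · rw [h]; norm_num
    · constructor <;> (intro e; rw [e] at h; norm_num at h)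
    · constructor <;> (intro e; rw [e] at h; norm_num at h)
  refine ⟨h12096, fun g hg => ?_, fun g hg => ?_, ⟨f (SU33.rep R 0), ?_⟩⟩
  · by_cases hgT : g ∈ f.range
    · obtain ⟨y, rfl⟩ := hgT
      exact (bad y).1 ((horder y).symm.trans hg)
    · obtain ⟨y, hy⟩ := Subgroup.sq_mem_of_index_two hidx g
      have h7 : orderOf y = 7 := by
        rw [← horder, hy, orderOf_pow' _ two_ne_zero, hg]; norm_num
      exact nocent g hgT y h7 (by rw [hy]; group)
  · obtain ⟨y, rfl⟩ : g ∈ f.range := by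
      have h21 : g = g ^ 2 ^ 1 * (g ^ 2) ^ 10 := by
        rw [← pow_mul, ← pow_add]
        conv_lhs => rw [← pow_one g]
        rw [pow_eq_pow_iff_modEq, hg]
        decide
      rw [h21]
      exact mul_mem (by simpa using Subgroup.sq_mem_of_index_two hidx g)
        (pow_mem (Subgroup.sq_mem_of_index_two hidx g) 10)
    exact (bad y).2 ((horder y).symm.trans hg)
  · haveI : Fact (Nat.Prime 2) := ⟨Nat.prime_two⟩
    rw [horder, show (4 : ℕ) = 2 ^ (1 + 1) by norm_num]
    refine orderOf_eq_prime_pow (fun h => rep_four.1 ?_) (pow_eq_one R ?_)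
    · have := congrArg (codeOf R) h
      rw [codeOf_pow, SU33.codeOf_rep, SU33.codeOf_one] at this
      simpa using this
    · rw [SU33.codeOf_rep]; simpa using rep_four.2

end CfsgLib.Char.GTwoTwo.Model
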