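import Cfsg.Agent.Lib.Perm.Small.OrderTools

/-!
# Finite tests on the block degrees at seven for order 12096
-/

set_option autoImplicit false
set_option linter.all false

namespace CfsgLib.Char.GTwoTwo

open CfsgLib.Perm.PrimeBlock

/-- No degree six in the list or in the exceptional family. -/
def noSix (l : List ℤ) : Bool :=
  l.all (fun s => s.natAbs != 6) && (1 + l.sum).natAbs != 6

/-- The squared values of an assignment. -/
def sqSum : List (ℤ × ℤ) → ℤ
  | [] => 0
  | q :: r => q.2 * q.2 + sqSum r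

theorem sqSum_eq : ∀ a : List (ℤ × ℤ), (a.map fun q => q.2 * q.2).sum = sqSum a
  | [] => rfl
  | q :: r => by simp [sqSum, sqSum_eq r]

theorem sqSum_nonneg : ∀ a : List (ℤ × ℤ), 0 ≤ sqSum a
  | [] => le_rfl
  | q :: r => by
    have := sqSum_nonneg r
    simp only [sqSum]
    nlinarith [mul_self_nonneg q.2]

theorem valsFor_mono {c C : ℕ} (h : c ≤ C) {s S : ℤ} (hS : S ∈ valsFor c s) : S ∈ valsFor C s := by
  simp only [valsFor, List.mem_filter, Bool.and_eq_true, decide_eq_true_eq] at hS ⊢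
  exact ⟨hS.1, lt_of_lt_of_le hS.2.1 (by exact_mod_cast h), hS.2.2⟩

/-- The multiplier of a squared value, scaled by 1728. -/
def mult (s : ℤ) : ℤ := 1728 / s

/-- Nested search: `b` is the remaining budget, `t` the sum of values, `n` the scaled sum of squares. -/
def go (D : ℤ) : List (List ℤ × ℤ) → ℤ → ℤ → ℤ → Bool
  | [], b, t, n => decide (t * t ≤ b) && decide (t.natAbs < D.natAbs) && decide ((t - D) % 4 = 0) &&
      decide (n * D = t * t * 1728)
  | (vals, w) :: r, b, t, n => vals.any fun S =>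
      decide (S * S ≤ b) && go D r (b - S * S) (t + S) (n + w * (S * S))

/-- The test for an involution with centralizer of order at most `c`, in `k` pairs with product of
order seven; `K = k * c ^ 2 / 7`. -/
def testOk (c : ℕ) (K : ℤ) (l : List ℤ) : Bool :=
  go (1 + l.sum) (l.map fun s => (valsFor c s, mult s)) ((c : ℤ) - 1) 1 (1728 - K)

theorem go_of (D : ℤ) (C : ℕ) : ∀ (l : List ℤ) (a : List (ℤ × ℤ)) (c : ℕ), c ≤ C → a ∈ assigns c l →
    ∀ b t n : ℤ, sqSum a + (t + (a.map Prod.snd).sum) * (t + (a.map Prod.snd).sum) ≤ b →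
      (n + (a.map fun q => mult q.1 * (q.2 * q.2)).sum) * D =
        (t + (a.map Prod.snd).sum) * (t + (a.map Prod.snd).sum) * 1728 →
      (t + (a.map Prod.snd).sum).natAbs < D.natAbs → (t + (a.map Prod.snd).sum - D) % 4 = 0 →
      go D (l.map fun s => (valsFor C s, mult s)) b t n = true := by
  intro l
  induction l with
  | nil =>
    intro a c _ ha b t n hb hn hlt hmod
    obtain rfl : a = [] := by simpa [assigns] using ha
    simp [sqSum] at hb hn hlt hmod
    simp [go, hb, hn, hlt, hmod]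
  | cons s r ih =>
    intro a c hc ha b t n hb hn hlt hmod
    simp only [assigns, List.mem_flatMap, List.mem_map] at ha
    obtain ⟨S, hS, q, hq, rfl⟩ := ha
    simp only [sqSum, List.map_cons, List.sum_cons] at hb hn hlt hmod
    have h0 := sqSum_nonneg q
    have h1 := mul_self_nonneg (t + (S + (q.map Prod.snd).sum))
    simp only [List.map_cons, go, List.any_eq_true, Bool.and_eq_true, decide_eq_true_eq]
    refine ⟨S, valsFor_mono hc hS, by linarith, ih q c hc hq _ _ _ ?_ ?_ ?_ ?_⟩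
    · rw [add_assoc t]; linarith
    · rw [add_assoc t, add_assoc n]; exact hn
    · rw [add_assoc t]; exact hlt
    · rw [add_assoc t]; exact hmod

theorem fst_of_mem : ∀ (l : List ℤ) (a : List (ℤ × ℤ)) (c : ℕ), a ∈ assigns c l → a.map Prod.fst = l := by
  intro l
  induction l with
  | nil => intro a c ha; obtain rfl : a = [] := by simpa [assigns] using ha
           rfl
  | cons s r ih =>
    intro a c ha
    simp only [assigns, List.mem_flatMap, List.mem_map] at ha
    obtain ⟨S, -, q, hq, rfl⟩ := ha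
    rw [List.map_cons, ih q c hq]

theorem fracSum_scaled : ∀ a : List (ℤ × ℤ), (∀ q ∈ a, q.1 ∣ 1728 ∧ q.1 ≠ 0) →
    (fracSum a).2 ≠ 0 ∧
      (fracSum a).1 * 1728 = (1728 + (a.map fun q => mult q.1 * (q.2 * q.2)).sum) * (fracSum a).2 := by
  intro a
  induction a with
  | nil => intro _; simp [fracSum]
  | cons q r ih =>
    intro h
    obtain ⟨h1, h2⟩ := ih fun p hp => h p (List.mem_cons_of_mem _ hp)
    obtain ⟨hd, hq⟩ := h q (by simp)
    obtain ⟨k, hk⟩ := hd
    obtain ⟨s, S⟩ := q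
    simp only at hk hq
    have hm : mult s = k := by rw [mult, hk, Int.mul_ediv_cancel_left _ hq]
    simp only [fracSum, List.map_cons, List.sum_cons, hm]
    refine ⟨mul_ne_zero h1 hq, ?_⟩
    linear_combination s * h2 + (fracSum r).2 * S * S * hk

theorem good_scaled {l : List ℤ} {c k : ℕ} {K : ℤ} {a : List (ℤ × ℤ)}
    (hK : 7 * K = (k : ℤ) * (c : ℤ) * (c : ℤ))
    (hl : ∀ s ∈ l, s ∣ 1728 ∧ s ≠ 0)
    (ha : a ∈ assigns c l) (hg : goodAssignK 12096 7 6 k c a = true) :
    (1 + (a.map Prod.snd).sum).natAbs < (1 + l.sum).natAbs ∧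
      ((1 + (a.map Prod.snd).sum) - (1 + l.sum)) % 4 = 0 ∧
      sqSum a + (1 + (a.map Prod.snd).sum) * (1 + (a.map Prod.snd).sum) + 1 ≤ (c : ℤ) ∧
      (1728 - K + (a.map fun q => mult q.1 * (q.2 * q.2)).sum) * (1 + l.sum) =
        (1 + (a.map Prod.snd).sum) * (1 + (a.map Prod.snd).sum) * 1728 := by
  have hfst := fst_of_mem l a c ha
  obtain ⟨hden, hnum⟩ := fracSum_scaled a fun q hq => hl _ (hfst ▸ List.mem_map.2 ⟨q, hq, rfl⟩)
  simp only [goodAssignK, Bool.and_eq_true, decide_eq_true_eq, beq_iff_eq, hfst] at hg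
  obtain ⟨⟨⟨hlt, hmod⟩, hle⟩, heq⟩ := hg
  rw [sqSum_eq, show (7 - 1) / 6 = 1 from rfl] at hle
  rw [← hK] at heq
  push_cast at heq hle
  refine ⟨hlt, hmod, by linarith, mul_right_cancel₀ hden (mul_left_cancel₀ (show (7 : ℤ) ≠ 0 by norm_num) ?_)⟩
  linear_combination (-7 * (1 + l.sum)) * hnum + heq

theorem testOk_of {l : List ℤ} {c C k : ℕ} {K : ℤ} {a : List (ℤ × ℤ)} (hc : c ≤ C)
    (hK : 7 * K = (k : ℤ) * (c : ℤ) * (c : ℤ))
    (hl : ∀ s ∈ l, s ∣ 1728 ∧ s ≠ 0)
    (ha : a ∈ assigns c l) (hg : goodAssignK 12096 7 6 k c a = true) : testOk C K l = true := by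
  obtain ⟨hlt, hmod, hle, heq⟩ := good_scaled hK hl ha hg
  have hc' : (c : ℤ) ≤ (C : ℤ) := by exact_mod_cast hc
  exact go_of _ C l a c hc ha _ 1 _ (by linarith) heq hlt hmod

theorem mult_sum_le : ∀ (l : List ℤ) (a : List (ℤ × ℤ)) (c : ℕ), a ∈ assigns c l →
    (∀ s ∈ l, mult s ≤ 216) → (a.map fun q => mult q.1 * (q.2 * q.2)).sum ≤ 216 * sqSum a := by
  intro l
  induction l with
  | nil =>
    intro a c ha _
    obtain rfl : a = [] := by simpa [assigns] using ha
    simp [sqSum]
  | cons s r ih =>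
    intro a c ha hm
    simp only [assigns, List.mem_flatMap, List.mem_map] at ha
    obtain ⟨S, -, q, hq, rfl⟩ := ha
    have h1 := ih q c hq fun t ht => hm t (List.mem_cons_of_mem _ ht)
    have h2 := mul_le_mul_of_nonneg_right (hm s (by simp)) (mul_self_nonneg S)
    simp only [List.map_cons, List.sum_cons, sqSum]
    linarith

/-- Seven pairs are impossible for a centralizer of order 576. -/
theorem no_seven_large {l : List ℤ} {a : List (ℤ × ℤ)}
    (hl : ∀ s ∈ l, s ∣ 1728 ∧ s ≠ 0) (hm : ∀ s ∈ l, mult s ≤ 216) (hD : 8 ≤ (1 + l.sum).natAbs)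
    (ha : a ∈ assigns 576 l) (hg : goodAssignK 12096 7 6 7 576 a = true) : False := by
  obtain ⟨-, -, hle, heq⟩ := good_scaled (K := 576 * 576) (by norm_num) hl ha hg
  have h1 := mult_sum_le l a 576 ha hm
  have h2 := sqSum_nonneg a
  have h3 := mul_self_nonneg (1 + (a.map Prod.snd).sum)
  push_cast at hle
  generalize (1 + (a.map Prod.snd).sum) * (1 + (a.map Prod.snd).sum) = T2 at *
  generalize (a.map fun q => mult q.1 * (q.2 * q.2)).sum = N at *
  generalize (1 + l.sum) = D at *
  rcases (show 8 ≤ D ∨ D ≤ -8 by omega) with h | h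
  · nlinarith
  · nlinarith

/-- The admissible lists. -/
def allLists : List (List ℤ) :=
  [[-27, -27, -48, 64, 64], [-27, -27, -27, 64, 64], [-27, -27, -27, -48, 64], [-27, -27, -27, 36, 36],
   [8, -27, -27, 36, 36], [8, -27, -27, -27, 64], [8, -27, -27, -27, 36], [8, 8, -27, -27, 64],
   [8, 8, -27, -27, -27]]

theorem allLists_spec : ∀ l ∈ degLists 12096 1728 7 6 110, noSix l = true → l ∈ allLists := by
  decide +kernel

theorem allLists_dvd : ∀ l ∈ allLists, ∀ s ∈ l, s ∣ 1728 ∧ s ≠ 0 := by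
  decide +kernel

theorem allLists_mult : ∀ l ∈ allLists, (∀ s ∈ l, mult s ≤ 216) ∧ 8 ≤ (1 + l.sum).natAbs := by
  decide +kernel

theorem cent_cases : ∀ c ∈ Nat.divisors 1728, 64 ∣ c → c = 64 ∨ c = 192 ∨ c = 576 ∨ c = 1728 := by
  decide +kernel

theorem seven_lists : allLists.all (fun l => !testOk 64 (64 * 64) l && !testOk 192 (192 * 192) l) = true := by
  decide +kernel

theorem zero_lists : allLists.all (fun l => !testOk 576 0 l) = true := by
  decide +kernel

theorem block_lists : degLists 6048 864 7 3 78 = [[8, -27], [-6, -27], [-6, 8]] := by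
  decide +kernel

theorem block_skip : refutedTwo 6048 864 7 78 32 [(288, 3)] = true := by
  decide +kernel

end CfsgLib.Char.GTwoTwo
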