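import Cfsg.Agent.Lib.Char.GTwoTwo.Structure
import Cfsg.Agent.Lib.Char.GTwoTwo.Tests
import Cfsg.Agent.Lib.Char.MEleven.Order.Tools

/-!
# No simple group of order 12096 without elements of order 14 or 21
-/

set_option autoImplicit false
set_option linter.all false

open Cfsg CfsgLib.Perm.PrimeBlock CfsgLib.Block Finset
open CfsgLib.Char.MEleven.Order
open scoped ComplexConjugate

namespace CfsgLib.Char.GTwoTwo

universe u

variable {G : Type u} [Group G] [Finite G]

theorem not_simple (h : Hyp G) (F : Frame G) [IsSimpleGroup G] : False := by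
  classical
  haveI : Fact (Nat.Prime 7) := ⟨by norm_num⟩
  haveI : Fact (Nat.Prime 2) := ⟨Nat.prime_two⟩
  haveI := Fintype.ofFinite G
  haveI := Fintype.ofFinite (IrrCharacter G)
  have hG : ¬ IsMulCommutative G := fun hc => by
    haveI := hc
    letI : CommGroup G :=
      { (inferInstance : Group G) with mul_comm := fun a b => IsMulCommutative.is_comm.comm a b }
    have hp := IsSimpleGroup.prime_card (α := G)
    rw [h.card] at hp
    norm_num at hp
  have hg : Nat.card G = 1728 * 7 := by rw [h.card]
  have hm : ¬ 7 ∣ 1728 := by norm_num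
  obtain ⟨P, n, e, c, hP, hn, -, -, -, he2, hep, hC, hN, hnS, ⟨S⟩⟩ :=
    exists_data hG 7 1728 (by norm_num) hg hm
  rw [F.sylow] at hnS
  subst hnS
  obtain ⟨x', hx'⟩ := exists_prime_orderOf_dvd_card' (G := (P : Subgroup G)) 7 (by rw [hP])
  obtain ⟨x, hx, hxo⟩ : ∃ x ∈ (P : Subgroup G), orderOf x = 7 :=
    ⟨x', x'.2, by rw [Subgroup.orderOf_coe, hx']⟩
  have hx1 : x ≠ 1 := fun e => by rw [e, orderOf_one] at hxo; norm_num at hxo
  have hCle : Subgroup.centralizer ((P : Subgroup G) : Set G) ≤ Subgroup.centralizer ({x} : Set G) :=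
    fun g hg => Subgroup.mem_centralizer_singleton_iff.2 (Subgroup.mem_centralizer_iff.1 hg x hx).symm
  have hc1 : c = 1 := by
    have := Subgroup.card_dvd_of_le hCle
    rw [hC, h.cent_card hxo] at this
    have h7 := Nat.le_of_dvd (by norm_num) this
    have : 0 < c := by
      by_contra hc0
      obtain rfl : c = 0 := by omega
      rw [mul_zero, mul_zero] at hn
      norm_num at hn
    omega
  subst hc1
  rw [mul_one] at hC
  obtain rfl : e = 6 := by omega
  have hy7 : F.y ^ (7 - 1) = 1 := by rw [show 7 - 1 = orderOf F.y by rw [F.hy], pow_orderOf_eq_one]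
  have h6 : ∀ χ : IrrCharacter G, χ ≠ oneChar G → dg χ ≠ 6 := by
    intro χ hχ hd
    refine false_of_degree_pred hG (p := 7) (by norm_num) F.hx (g := F.y) F.conj ?_ hy7 χ
      (fun e => hχ (Subtype.ext e)) ?_
    · exact orderOf_three
    · rw [val_one, hd]
  obtain ⟨W⟩ : Nonempty (Sylow 2 G) := inferInstance
  haveI : Nontrivial (W : Subgroup G) := (Subgroup.nontrivial_iff_ne_bot _).2
    (W.ne_bot_of_dvd_card (by rw [h.card]; norm_num))
  haveI : Nontrivial (Subgroup.center (W : Subgroup G)) := W.2.center_nontrivial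
  obtain ⟨z', hz'⟩ := exists_prime_orderOf_dvd_card' (G := Subgroup.center (W : Subgroup G)) 2 (by
    obtain ⟨k, hk⟩ := (W.2.to_subgroup (Subgroup.center (W : Subgroup G))).exists_card_eq
    rcases k with _ | k
    · rw [pow_zero] at hk
      exact absurd hk Finite.one_lt_card.ne'
    · rw [hk, pow_succ]; exact dvd_mul_left 2 _)
  obtain ⟨u, hudef⟩ : ∃ u : G, u = ((z' : (W : Subgroup G)) : G) := ⟨_, rfl⟩
  have huo : orderOf u = 2 := by rw [hudef, Subgroup.orderOf_coe, Subgroup.orderOf_coe, hz']
  have h64 : 64 ∣ Nat.card (Subgroup.centralizer ({u} : Set G)) := by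
    have hW : 2 ^ 6 ∣ Nat.card (W : Subgroup G) :=
      W.pow_dvd_card_of_pow_dvd_card (by rw [h.card]; norm_num)
    refine hW.trans (Subgroup.card_dvd_of_le fun w hw => ?_)
    rw [Subgroup.mem_centralizer_singleton_iff, hudef]
    exact congrArg Subtype.val (Subgroup.mem_center_iff.1 z'.2 ⟨w, hw⟩)
  have hcases : CfsgLib.Char.classConst u u x = 0 ∨ CfsgLib.Char.classConst u u x = 7 := by
    rcases Nat.eq_zero_or_pos (CfsgLib.Char.classConst u u x) with h0 | h0
    · exact Or.inl h0
    refine Or.inr ?_
    obtain ⟨⟨a, b⟩, ha, hb, hab⟩ := (Nat.card_pos_iff.1 h0).1.some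
    simp only at ha hb hab
    obtain ⟨ha2, -, hinv, -⟩ := pair_inverts huo ha hb hab
    rw [← classConst_eq_of_inverting (by norm_num) hP hC hx hx1 ha2 (by
      rwa [inv_eq_of_mul_eq_one_left ha2] at hinv)]
    exact Nat.card_congr (Equiv.subtypeEquivRight fun q =>
      ⟨fun h => ⟨ha.symm.trans h.1, ha.symm.trans h.2.1, h.2.2⟩,
        fun h => ⟨ha.trans h.1, ha.trans h.2.1, h.2.2⟩⟩)
  obtain ⟨l, hl, hlX, hlsum, -, hcm, a, ha, hgood⟩ :=
    S.exists_assign_linked hG (by norm_num) hP hg hm (by norm_num) (by norm_num) hC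
      (B := 110) (by rw [h.card]; norm_num) hx hx1 huo
  rw [h.card] at hl hgood
  have hno : noSix l = true := by
    simp only [noSix, Bool.and_eq_true, List.all_eq_true, bne_iff_ne, ne_eq]
    refine ⟨fun s hs e => ?_, fun e => ?_⟩
    · obtain ⟨χ, hχ, rfl⟩ := hlX s hs
      refine h6 χ (fun e' => S.one_notMem_X (e' ▸ hχ)) ?_
      rcases S.sign_X χ hχ with e' | e' <;> rw [e'] at e <;> simpa [dg] using e
    · obtain ⟨θ, hθ⟩ : S.Y.Nonempty := Finset.card_pos.1 (by rw [S.card_Y]; norm_num)
      refine h6 θ (fun e' => S.one_notMem_Y (e' ▸ hθ)) ?_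
      rw [show dg θ = S.D from S.degree_Y θ hθ]
      rw [hlsum] at e
      rcases S.sign with e' | e' <;> rw [e'] at e <;> simpa using e
  have hl' := allLists_spec l hl hno
  have hdv := allLists_dvd l hl'
  set cu := Nat.card (Subgroup.centralizer ({u} : Set G)) with hcu
  have hc576 : cu = 64 ∨ cu = 192 ∨ cu = 576 := by
    rcases cent_cases cu (Nat.mem_divisors.2 ⟨hcm, by norm_num⟩) h64 with e | e | e | e
    · exact Or.inl e
    · exact Or.inr (Or.inl e)
    · exact Or.inr (Or.inr e)
    · exfalso
      have hne : Subgroup.centralizer ({u} : Set G) ≠ ⊤ := fun et => by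
        have := h.card
        rw [← Subgroup.card_top (G := G), ← et, ← hcu, e] at this
        norm_num at this
      have hidx : (Subgroup.centralizer ({u} : Set G)).index = 7 := by
        have := Subgroup.card_mul_index (Subgroup.centralizer ({u} : Set G))
        rw [← hcu, e, h.card] at this
        omega
      have := index_dvd_factorial_twice hG hne
      rw [hidx, h.card] at this
      norm_num [Nat.factorial] at this
  have hz := zero_lists
  have hs := seven_lists
  rw [List.all_eq_true] at hz hs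
  have hz' := hz l hl'
  have hs' := hs l hl'
  simp only [Bool.and_eq_true, Bool.not_eq_true'] at hz' hs'
  rcases hcases with e | e <;> rw [e] at hgood
  · have := testOk_of (C := 576) (K := 0) (by rcases hc576 with e | e | e <;> omega) (by simp) hdv ha hgood
    rw [hz'] at this
    exact absurd this (by decide)
  · rcases hc576 with e' | e' | e' <;> rw [e'] at ha hgood
    · have := testOk_of (C := 64) (K := 64 * 64) le_rfl (by norm_num) hdv ha hgood
      rw [hs'.1] at this
      exact absurd this (by decide)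
    · have := testOk_of (C := 192) (K := 192 * 192) le_rfl (by norm_num) hdv ha hgood
      rw [hs'.2] at this
      exact absurd this (by decide)
    · obtain ⟨hm', hD⟩ := allLists_mult l hl'
      exact no_seven_large hdv hm' hD ha hgood

theorem exists_half (h : Hyp G) (F : Frame G) :
    ∃ C : Core F, Nat.card C.T = 6048 ∧ C.T.index = 2 ∧ F.y ∉ C.T ∧ F.y ^ 2 ∈ C.T := by
  obtain ⟨C⟩ := h.exists_core F
  rcases C.cases with ⟨-, htop⟩ | hh
  · exfalso
    haveI := C.simple
    haveI : Nontrivial G := Finite.one_lt_card_iff_nontrivial.1 (by rw [h.card]; norm_num)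
    haveI : IsSimpleGroup G := IsSimpleGroup.isSimpleGroup_of_surjective
      (((MulEquiv.subgroupCongr htop).trans Subgroup.topEquiv).toMonoidHom)
      ((MulEquiv.subgroupCongr htop).trans Subgroup.topEquiv).surjective
    exact not_simple h F
  · exact ⟨C, hh⟩

end CfsgLib.Char.GTwoTwo
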