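import Cfsg.Agent.Lib.Char.GTwoTwo.Form
import Cfsg.Agent.Lib.Char.GTwoTwo.Cubic

/-!
# The possible third generators
-/

set_option autoImplicit false
set_option linter.all false

open Matrix Finset

namespace CfsgLib.Char.GTwoTwo

universe u

namespace Cubic

/-- `ζ^m + ζ^(-m)`. -/
noncomputable def psi (m : ℕ) : ℂ := Ctx.zeta ^ m + Ctx.zeta ^ (7 - m)

theorem zeta_seven : Ctx.zeta ^ 7 = 1 := Ctx.zeta_prim.pow_eq_one

theorem zeta_sum : 1 + Ctx.zeta + Ctx.zeta ^ 2 + Ctx.zeta ^ 3 + Ctx.zeta ^ 4 + Ctx.zeta ^ 5 + Ctx.zeta ^ 6 = 0 := by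
  have h := Ctx.zeta_prim.geom_sum_eq_zero (by norm_num)
  simp only [Finset.sum_range_succ, Finset.sum_range_zero, pow_zero, pow_one, zero_add] at h
  linear_combination h

theorem psi_three : psi 3 = -1 - psi 1 - psi 2 := by
  simp only [psi, Nat.reduceSub, pow_one]
  linear_combination zeta_sum

theorem psi_one_sq : psi 1 * psi 1 = 2 + psi 2 := by
  simp only [psi, Nat.reduceSub, pow_one]
  linear_combination (2 + Ctx.zeta ^ 5) * zeta_seven

theorem psi_two_sq : psi 2 * psi 2 = 1 - psi 1 - psi 2 := by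
  simp only [psi, Nat.reduceSub, pow_one]
  linear_combination (2 + Ctx.zeta ^ 3) * zeta_seven + zeta_sum

theorem psi_one_two : psi 1 * psi 2 = -1 - psi 2 := by
  simp only [psi, Nat.reduceSub, pow_one]
  linear_combination (Ctx.zeta + Ctx.zeta ^ 4) * zeta_seven + zeta_sum

/-- Evaluation. -/
noncomputable def ev (x : Tri) : ℂ := (x.1 : ℂ) + (x.2.1 : ℂ) * psi 1 + (x.2.2 : ℂ) * psi 2

theorem ev_add (x y : Tri) : ev (add x y) = ev x + ev y := by simp [ev, add]; ring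

theorem ev_sub (x y : Tri) : ev (sub x y) = ev x - ev y := by simp [ev, sub, add, neg]; ring

theorem ev_cst (n : ℤ) : ev (cst n) = n := by simp [ev, cst]

theorem ev_smul (n : ℤ) (x : Tri) : ev (smul n x) = n * ev x := by simp [ev, smul]; ring

theorem ev_mul (x y : Tri) : ev (mul x y) = ev x * ev y := by
  simp only [ev, mul]
  push_cast
  linear_combination -((x.2.1 : ℂ) * y.2.1) * psi_one_sq - ((x.2.2 : ℂ) * y.2.2) * psi_two_sq
    - ((x.2.1 : ℂ) * y.2.2 + (x.2.2 : ℂ) * y.2.1) * psi_one_two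

theorem ev_p1 : ev p1 = psi 1 := by simp [ev, p1]
theorem ev_p2 : ev p2 = psi 2 := by simp [ev, p2]
theorem ev_p3 : ev p3 = psi 3 := by rw [psi_three]; simp [ev, p3]; ring

theorem ne_zero_of_nz {x : Tri} (h : nz x = true) : ev x ≠ 0 := by
  intro h0
  simp only [nz, Bool.and_eq_true, decide_eq_true_eq] at h
  obtain ⟨⟨h1, h2⟩, h3⟩ := h
  have e := ev_mul x (mul (gal x) (gal (gal x)))
  rw [h0, zero_mul, ev, h2, h3] at e
  simp at e
  exact h1 e

theorem nz_false {x : Tri} (h : ev x = 0) : nz x = false := by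
  by_contra hne
  exact ne_zero_of_nz (Bool.eq_true_of_not_eq_false hne) h

theorem survivors_eq : survivors =
    [((-1, 1, 1), (0, 1, -1)), ((1, -1, 1), (-1, 0, 1)), ((1, 1, -1), (1, -1, 0))] := by
  decide +kernel

theorem mem_vals {a : ℤ} (h1 : -3 ≤ a) (h2 : a ≤ 2) : a ∈ vals := by
  interval_cases a <;> decide

theorem mem_valsSq {a : ℤ} (h1 : -3 ≤ a) (h2 : a ≤ 6) : a ∈ valsSq := by
  interval_cases a <;> decide

theorem mem_survivors {a b c p q r : ℤ} (ha : a ∈ vals) (hb : b ∈ vals) (hc : c ∈ vals) (hs : a + b + c = 1)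
    (hp : p ∈ vals) (hq : q ∈ vals) (hr : r ∈ vals) (hz : p + q + r = 0)
    (h : passes (a, b, c) (p, q, r) = true) : ((a, b, c), (p, q, r)) ∈ survivors := by
  simp only [survivors, List.mem_flatMap]
  refine ⟨a, ha, b, hb, c, hc, ?_⟩
  rw [if_pos hs]
  simp only [List.mem_flatMap]
  refine ⟨p, hp, q, hq, r, hr, ?_⟩
  rw [if_pos hz, if_pos h]
  simp

/-- The standard even block. -/
def std : Fin 3 → Fin 3 → Tri := blockTri (1, 1, -1) (1, -1, 0)

theorem shifts : ∀ x ∈ [((-1, 1, 1), (0, 1, -1)), ((1, -1, 1), (-1, 0, 1)), (((1, 1, -1), (1, -1, 0)) : (ℤ × ℤ × ℤ) × (ℤ × ℤ × ℤ))],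
    ∃ c : Fin 3, ∀ i j : Fin 3, blockTri x.1 x.2 (i + c) (j + c) = std i j := by
  decide +kernel

theorem std_nonzero : nz (rTri (1, 1, -1) (1, -1, 0) 0) = true := by decide +kernel

end Cubic

namespace Ctx

open Cubic

/-- The even positions. -/
def evIdx : Fin 3 → Fin 6 := ![0, 2, 4]

/-- A matrix in the normal form given by nine parameters. -/
def nineForm (d0 d1 d2 f0 f1 f2 q01 q02 q12 : ℂ) : Matrix (Fin 6) (Fin 6) ℂ :=
  !![d0, q02, f1, 0, f0, q01; -q02, d2, -q12, f0, 0, f2; f1, q12, d1, -q01, f2, 0;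
    0, f0, q01, d0, q02, f1; f0, 0, f2, -q02, d2, -q12; -q01, f2, 0, f1, q12, d1]

theorem MatProps.nine {E : Matrix (Fin 6) (Fin 6) ℂ} (h : MatProps E) :
    E = nineForm (E 0 0) (E 2 2) (E 4 4) (E 4 0) (E 0 2) (E 2 4) (E 3 2) (E 3 4) (E 5 4) := by
  have s := h.shift
  have y := h.sym
  have z03 : E 0 3 = 0 := by
    have a : E 3 0 = E 0 3 := s 0 3
    have b := y 0 3; simp [sgn6] at b
    linear_combination (2 : ℂ)⁻¹ * b - (2 : ℂ)⁻¹ * a
  have z14 : E 1 4 = 0 := by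
    have a : E 4 1 = E 1 4 := s 1 4
    have b := y 1 4; simp [sgn6] at b
    linear_combination (2 : ℂ)⁻¹ * b - (2 : ℂ)⁻¹ * a
  have z25 : E 2 5 = 0 := by
    have a : E 5 2 = E 2 5 := s 2 5
    have b := y 2 5; simp [sgn6] at b
    linear_combination (2 : ℂ)⁻¹ * b - (2 : ℂ)⁻¹ * a
  have a01 : E 0 1 = E 3 4 := (s 0 1).symm
  have a05 : E 0 5 = E 3 2 := (s 0 5).symm
  have a21 : E 2 1 = E 5 4 := (s 2 1).symm
  have a11 : E 1 1 = E 4 4 := (s 1 1).symm
  have a13 : E 1 3 = E 4 0 := (s 1 3).symm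
  have a15 : E 1 5 = E 4 2 := (s 1 5).symm
  have a30 : E 3 0 = E 0 3 := s 0 3
  have a31 : E 3 1 = E 0 4 := s 0 4
  have a33 : E 3 3 = E 0 0 := s 0 0
  have a35 : E 3 5 = E 0 2 := s 0 2
  have a41 : E 4 1 = E 1 4 := s 1 4
  have a51 : E 5 1 = E 2 4 := s 2 4
  have a52 : E 5 2 = E 2 5 := s 2 5
  have a53 : E 5 3 = E 2 0 := s 2 0
  have a55 : E 5 5 = E 2 2 := s 2 2
  have b10 := y 0 1
  have b20 := y 0 2
  have b40 := y 4 0
  have b12 := y 2 1
  have b50 := y 0 5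
  have b23 := y 3 2
  have b42 := y 2 4
  have b43 := y 3 4
  have b45 := y 5 4
  simp [sgn6] at b10 b20 b40 b12 b50 b23 b42 b43 b45
  ext i j
  fin_cases i <;> fin_cases j <;>
    simp [nineForm, z03, z14, z25, a01, a05, a21, a11, a13, a15, a30, a31, a33, a35, a41, a51, a52, a53, a55,
      b10, b20, b40, b12, b50, b23, b42, b43, b45]

/-- The equations and the values of a third generator. -/
structure Sol (d0 d1 d2 f0 f1 f2 q01 q02 q12 : ℂ) : Prop where
  e00 : d0 * d0 + f1 * f1 + f0 * f0 - q01 * q01 - q02 * q02 = 1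
  e11 : f1 * f1 + d1 * d1 + f2 * f2 - q01 * q01 - q12 * q12 = 1
  e22 : f0 * f0 + f2 * f2 + d2 * d2 - q02 * q02 - q12 * q12 = 1
  e01 : q02 * q12 = (d0 + d1) * f1 + f0 * f2
  e02 : q01 * q12 = -((d0 + d2) * f0 + f1 * f2)
  e12 : q01 * q02 = (d1 + d2) * f2 + f0 * f1
  r1 : (d0 + d2) * q02 + f1 * q12 + f2 * q01 = 0
  r2 : (d0 + d1) * q01 + f2 * q02 - f0 * q12 = 0
  r0 : (d1 + d2) * q12 + f1 * q02 - f0 * q01 = 0

theorem sol_of_sq (d0 d1 d2 f0 f1 f2 q01 q02 q12 : ℂ)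
    (h : nineForm d0 d1 d2 f0 f1 f2 q01 q02 q12 * nineForm d0 d1 d2 f0 f1 f2 q01 q02 q12 = 1) :
    Sol d0 d1 d2 f0 f1 f2 q01 q02 q12 := by
  have e := fun i j => congrFun (congrFun h i) j
  have h00 := e 0 0
  have h22 := e 2 2
  have h44 := e 4 4
  have h02 := e 0 2
  have h04 := e 0 4
  have h24 := e 2 4
  have h01 := e 0 1
  have h05 := e 0 5
  have h21 := e 2 1
  simp [nineForm, Matrix.mul_apply, Fin.sum_univ_succ] at h00 h22 h44 h02 h04 h24 h01 h05 h21
  exact ⟨by linear_combination h00, by linear_combination h22, by linear_combination h44,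
    by linear_combination -h02, by linear_combination h04, by linear_combination -h24,
    by linear_combination h01, by linear_combination h05, by linear_combination h21⟩

theorem Sol.det_eq_zero {d0 d1 d2 f0 f1 f2 q01 q02 q12 : ℂ} (S : Sol d0 d1 d2 f0 f1 f2 q01 q02 q12)
    (hsum : d0 + d1 + d2 = -1) :
    (d0 + 1) * ((d1 + 1) * (d2 + 1)) + 2 * (f1 * (f2 * f0)) - (d0 + 1) * (f2 * f2) -
      (d1 + 1) * (f0 * f0) - (d2 + 1) * (f1 * f1) = 0 := by
  set m0 := d0 + 1 with hm0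
  set m1 := d1 + 1 with hm1
  set m2 := d2 + 1 with hm2
  set D := m0 * (m1 * m2) + 2 * (f1 * (f2 * f0)) - m0 * (f2 * f2) - m1 * (f0 * f0) - m2 * (f1 * f1) with hD
  have row0 : m0 * q12 - f1 * q02 + f0 * q01 = 0 := by
    linear_combination -S.r0 + q12 * hsum + q12 * hm0
  have row1 : f1 * q12 - m1 * q02 + f2 * q01 = 0 := by
    linear_combination S.r1 - q02 * hsum - q02 * hm1
  have row2 : f0 * q12 - f2 * q02 + m2 * q01 = 0 := by
    linear_combination -S.r2 + q01 * hsum + q01 * hm2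
  by_contra hne
  have h12 : q12 = 0 := (mul_eq_zero.1 (show D * q12 = 0 by
    rw [hD]; linear_combination (m1 * m2 - f2 * f2) * row0 - (f1 * m2 - f0 * f2) * row1 +
      (f1 * f2 - f0 * m1) * row2)).resolve_left hne
  have h01 : q01 = 0 := (mul_eq_zero.1 (show D * q01 = 0 by
    rw [hD]; linear_combination (f1 * f2 - m1 * f0) * row0 - (m0 * f2 - f1 * f0) * row1 +
      (m0 * m1 - f1 * f1) * row2)).resolve_left hne
  have h02 : q02 = 0 := (mul_eq_zero.1 (show D * q02 = 0 by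
    rw [hD]; linear_combination (f1 * m2 - f2 * f0) * row0 - (m0 * m2 - f0 * f0) * row1 +
      (m0 * f2 - f0 * f1) * row2)).resolve_left hne
  subst h12 h01 h02
  have a00 := S.e00
  have a11 := S.e11
  have a22 := S.e22
  have a01 := S.e01
  have a02 := S.e02
  have a12 := S.e12
  have k0 : d0 = 1 := sub_eq_zero.1 ((mul_eq_zero.1 (show D * (d0 - 1) = 0 by
    rw [hD, hm0, hm1, hm2]
    linear_combination ((d1 + 1) * (d2 + 1) - f2 * f2) * a00 + (f1 * (d2 + 1) - f0 * f2) * a01 +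
      (f1 * f2 - f0 * (d1 + 1)) * a02)).resolve_left hne)
  have k1 : d1 = 1 := sub_eq_zero.1 ((mul_eq_zero.1 (show D * (d1 - 1) = 0 by
    rw [hD, hm0, hm1, hm2]
    linear_combination ((d0 + 1) * (d2 + 1) - f0 * f0) * a11 + (f1 * (d2 + 1) - f2 * f0) * a01 +
      ((d0 + 1) * f2 - f0 * f1) * a12)).resolve_left hne)
  have k2 : d2 = 1 := sub_eq_zero.1 ((mul_eq_zero.1 (show D * (d2 - 1) = 0 by
    rw [hD, hm0, hm1, hm2]
    linear_combination ((d0 + 1) * (d1 + 1) - f1 * f1) * a22 + (f1 * f2 - (d1 + 1) * f0) * a02 +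
      ((d0 + 1) * f2 - f1 * f0) * a12)).resolve_left hne)
  rw [k0, k1, k2] at hsum
  norm_num at hsum

theorem trace_sq_nine (d0 d1 d2 f0 f1 f2 q01 q02 q12 : ℂ) :
    (matX * nineForm d0 d1 d2 f0 f1 f2 q01 q02 q12 * (matX * nineForm d0 d1 d2 f0 f1 f2 q01 q02 q12)).trace =
      psi 2 * (d0 * d0) + psi 1 * (d1 * d1) + psi 3 * (d2 * d2) +
        2 * (psi 2 * (f1 * f1) + psi 3 * (f0 * f0) + psi 1 * (f2 * f2)) -
        2 * (psi 3 * (q01 * q01) + psi 1 * (q02 * q02) + psi 2 * (q12 * q12)) := by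
  have h7 := zeta_seven
  have h8 : zeta ^ 8 = zeta := by rw [show (8 : ℕ) = 7 + 1 by norm_num, pow_add, h7, one_mul, pow_one]
  have h9 : zeta ^ 9 = zeta ^ 2 := by rw [show (9 : ℕ) = 7 + 2 by norm_num, pow_add, h7, one_mul]
  have h10 : zeta ^ 10 = zeta ^ 3 := by rw [show (10 : ℕ) = 7 + 3 by norm_num, pow_add, h7, one_mul]
  have h11 : zeta ^ 11 = zeta ^ 4 := by rw [show (11 : ℕ) = 7 + 4 by norm_num, pow_add, h7, one_mul]
  have h12 : zeta ^ 12 = zeta ^ 5 := by rw [show (12 : ℕ) = 7 + 5 by norm_num, pow_add, h7, one_mul]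
  simp [Matrix.trace, Matrix.mul_apply, matX, Matrix.diagonal_mul, Fin.sum_univ_succ, nineForm, expo, psi]
  ring_nf
  simp only [h7, h8, h9, h10, h11, h12]
  ring

/-- The seven-fold entries of the even block. -/
theorem MatProps.block {E : Matrix (Fin 6) (Fin 6) ℂ} (h : MatProps E) :
    ∃ c : Fin 3, ∀ i j : Fin 3, (7 : ℂ) * E (evIdx (i + c)) (evIdx (j + c)) = ev (std i j) := by
  have hn := h.nine
  have hsq := h.sq
  have hdiag := h.diag
  have hoff := h.off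
  have htwo := h.two
  generalize hd0 : E 0 0 = d0, hd1 : E 2 2 = d1, hd2 : E 4 4 = d2, hf0 : E 4 0 = f0, hf1 : E 0 2 = f1,
    hf2 : E 2 4 = f2, hq1 : E 3 2 = q01, hq2 : E 3 4 = q02, hq3 : E 5 4 = q12 at hn
  subst hn
  have S := sol_of_sq _ _ _ _ _ _ _ _ _ hsq
  obtain ⟨t0, h0, -, -, ht0⟩ := hdiag 0 (by norm_num)
  obtain ⟨t1, h1, l1, u1, -⟩ := hdiag 1 (by norm_num)
  obtain ⟨t2, h2, l2, u2, -⟩ := hdiag 2 (by norm_num)
  obtain ⟨t3, h3, l3, u3, -⟩ := hdiag 3 (by norm_num)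
  obtain ⟨o0, g0, -, -, ho0⟩ := hoff 0 (by norm_num)
  obtain ⟨o1, g1, m1, v1, -⟩ := hoff 1 (by norm_num)
  obtain ⟨o2, g2, m2, v2, -⟩ := hoff 2 (by norm_num)
  obtain ⟨o3, g3, m3, v3, -⟩ := hoff 3 (by norm_num)
  obtain rfl := ht0 rfl
  obtain rfl := ho0 rfl
  obtain ⟨v, hv, lv, uv⟩ := htwo
  rw [trace_sq_nine] at hv
  have z8 : zeta ^ 8 = zeta := by rw [show (8 : ℕ) = 7 + 1 by norm_num, pow_add, zeta_seven, one_mul, pow_one]
  have z9 : zeta ^ 9 = zeta ^ 2 := by rw [show (9 : ℕ) = 7 + 2 by norm_num, pow_add, zeta_seven, one_mul]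
  have z10 : zeta ^ 10 = zeta ^ 3 := by rw [show (10 : ℕ) = 7 + 3 by norm_num, pow_add, zeta_seven, one_mul]
  have z12 : zeta ^ 12 = zeta ^ 5 := by rw [show (12 : ℕ) = 7 + 5 by norm_num, pow_add, zeta_seven, one_mul]
  have z15 : zeta ^ 15 = zeta := by
    rw [show (15 : ℕ) = 7 + 8 by norm_num, pow_add, zeta_seven, one_mul, z8]
  have z18 : zeta ^ 18 = zeta ^ 4 := by
    rw [show (18 : ℕ) = 7 + (7 + 4) by norm_num, pow_add, pow_add, zeta_seven, one_mul, one_mul]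
  simp [Fin.sum_univ_succ, nineForm, expo, ← pow_mul, z8, z9, z10, z12, z15, z18] at h0 h1 h2 h3 g0 g1 g2 g3
  have z7 := zeta_seven
  have q11 := psi_one_sq
  have q22 := psi_two_sq
  have q12' := psi_one_two
  have q3 := psi_three
  have T0 : 2 * (d0 + d1 + d2) = -2 := by linear_combination h0
  have T1 : psi 1 * d0 + psi 3 * d1 + psi 2 * d2 = (t1 : ℂ) := by
    simp only [psi, Nat.reduceSub, pow_one]; linear_combination h1
  have T2 : psi 2 * d0 + psi 1 * d1 + psi 3 * d2 = (t2 : ℂ) := by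
    simp only [psi, Nat.reduceSub, pow_one]
    linear_combination h2
  have T3 : psi 3 * d0 + psi 2 * d1 + psi 1 * d2 = (t3 : ℂ) := by
    simp only [psi, Nat.reduceSub, pow_one]
    linear_combination h3
  have U0 : 2 * (f0 + f1 + f2) = 0 := by linear_combination g0
  have U1 : psi 1 * f0 + psi 3 * f1 + psi 2 * f2 = (o1 : ℂ) := by
    simp only [psi, Nat.reduceSub, pow_one]; linear_combination g1
  have U2 : psi 2 * f0 + psi 1 * f1 + psi 3 * f2 = (o2 : ℂ) := by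
    simp only [psi, Nat.reduceSub, pow_one]
    linear_combination g2
  have U3 : psi 3 * f0 + psi 2 * f1 + psi 1 * f2 = (o3 : ℂ) := by
    simp only [psi, Nat.reduceSub, pow_one]
    linear_combination g3
  have hsum : d0 + d1 + d2 = -1 := by linear_combination (2 : ℂ)⁻¹ * T0
  have hfsum : f0 + f1 + f2 = 0 := by linear_combination (2 : ℂ)⁻¹ * U0
  have s1 : t1 + t2 + t3 = 1 := by
    have e : ((t1 + t2 + t3 : ℤ) : ℂ) = ((1 : ℤ) : ℂ) := by
      push_cast
      linear_combination -T1 - T2 - T3 + (d0 + d1 + d2) * q3 - hsum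
    exact_mod_cast e
  have s2 : o1 + o2 + o3 = 0 := by
    have e : ((o1 + o2 + o3 : ℤ) : ℂ) = ((0 : ℤ) : ℂ) := by
      push_cast
      linear_combination -U1 - U2 - U3 + (f0 + f1 + f2) * q3 - hfsum
    exact_mod_cast e
  set t : ℤ × ℤ × ℤ := (t1, t2, t3)
  set o : ℤ × ℤ × ℤ := (o1, o2, o3)
  rw [q3] at T1 T2 T3 U1 U2 U3
  have D0 : ev (dTri t 0) = 7 * d0 := by
    simp only [ev, dTri, t]; push_cast
    linear_combination -psi 1 * T1 - psi 2 * T2 + (1 + psi 1 + psi 2) * T3 - T0 +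
      ((2 * d0) * q11 + (2 * d0 - d1 - d2) * q22 + (2 * d0) * q12' - (d1 + d2) * q12' - (d1 + d2) * q11)
  have D1 : ev (dTri t 1) = 7 * d1 := by
    simp only [ev, dTri, t]; push_cast
    linear_combination (1 + psi 1 + psi 2) * T1 - psi 1 * T2 - psi 2 * T3 - T0 +
      ((2 * d1) * q11 + (2 * d1) * q22 + (2 * d1) * q12' - (d0 + d2) * (q11 + q22 + q12'))
  have D2 : ev (dTri t 2) = 7 * d2 := by
    simp only [ev, dTri, t]; push_cast
    linear_combination -psi 2 * T1 + (1 + psi 1 + psi 2) * T2 - psi 1 * T3 - T0 +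
      ((2 * d2) * q11 + (2 * d2) * q22 + (2 * d2) * q12' - (d0 + d1) * (q11 + q22 + q12'))
  have F0 : ev (fTri o 0) = 7 * f0 := by
    simp only [ev, fTri, o]; push_cast
    linear_combination -psi 1 * U1 - psi 2 * U2 + (1 + psi 1 + psi 2) * U3 - U0 +
      ((2 * f0) * q11 + (2 * f0) * q22 + (2 * f0) * q12' - (f1 + f2) * (q11 + q22 + q12'))
  have F1 : ev (fTri o 1) = 7 * f1 := by
    simp only [ev, fTri, o]; push_cast
    linear_combination (1 + psi 1 + psi 2) * U1 - psi 1 * U2 - psi 2 * U3 - U0 +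
      ((2 * f1) * q11 + (2 * f1) * q22 + (2 * f1) * q12' - (f0 + f2) * (q11 + q22 + q12'))
  have F2 : ev (fTri o 2) = 7 * f2 := by
    simp only [ev, fTri, o]; push_cast
    linear_combination -psi 2 * U1 + (1 + psi 1 + psi 2) * U2 - psi 1 * U3 - U0 +
      ((2 * f2) * q11 + (2 * f2) * q22 + (2 * f2) * q12' - (f0 + f1) * (q11 + q22 + q12'))
  have hdet : nz (detTri t o) = false := by
    refine nz_false ?_
    simp only [detTri, ev_sub, ev_add, ev_mul, ev_smul, ev_cst, D0, D1, D2, F0, F1, F2]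
    push_cast
    linear_combination (343 : ℂ) * S.det_eq_zero hsum
  have htr : nz (sub (trTri t o) (cst (98 * v))) = false := by
    refine nz_false ?_
    simp only [trTri, rTri, ev_sub, ev_add, ev_mul, ev_smul, ev_cst, ev_p1, ev_p2, ev_p3, D0, D1, D2, F0,
      F1, F2]
    push_cast
    linear_combination (98 : ℂ) * hv - 98 * psi 3 * (S.e00 + S.e11 - S.e22) -
      98 * psi 1 * (S.e00 - S.e11 + S.e22) - 98 * psi 2 * (-S.e00 + S.e11 + S.e22)
  have hpass : passes t o = true := by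
    simp only [passes, Bool.and_eq_true, Bool.not_eq_true', hdet, true_and, List.any_eq_true]
    exact ⟨v, mem_valsSq lv uv, htr⟩
  have hmem := mem_survivors (mem_vals l1 u1) (mem_vals l2 u2) (mem_vals l3 u3) s1 (mem_vals m1 v1)
    (mem_vals m2 v2) (mem_vals m3 v3) s2 hpass
  rw [survivors_eq] at hmem
  obtain ⟨c, hc⟩ := shifts _ hmem
  refine ⟨c, fun i j => ?_⟩
  have hblock : ∀ a b : Fin 3, (7 : ℂ) * nineForm d0 d1 d2 f0 f1 f2 q01 q02 q12 (evIdx a) (evIdx b) =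
      ev (blockTri t o a b) := by
    intro a b
    fin_cases a <;> fin_cases b <;> simp [nineForm, evIdx, blockTri, D0, D1, D2, F0, F1, F2]
  rw [hblock]
  exact congrArg ev (hc i j)

end Ctx

end CfsgLib.Char.GTwoTwo
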