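import Cfsg.Agent.Lib.PGroup.Basic
import Cfsg.Agent.Lib.Coprime.Core
import Cfsg.Agent.Lib.Char.SmallGraph.Coprime
import Cfsg.Agent.Lib.Char.Burnside
import Cfsg.Agent.Lib.Perm.Small.OrdersMid
import Cfsg.Agent.Lib.Perm.Small.OrdersRange

/-!
# Groups of order 12096 without elements of order 14 or 21
-/

set_option autoImplicit false
set_option linter.all false

open Subgroup

namespace CfsgLib.Char.GTwoTwo

universe u

/-- The hypotheses shared by all groups with the order and spectrum of `G₂(2)`. -/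
structure Hyp (G : Type u) [Group G] : Prop where
  card : Nat.card G = 12096
  no14 : ∀ g : G, orderOf g ≠ 14
  no21 : ∀ g : G, orderOf g ≠ 21
  four : ∃ g : G, orderOf g = 4

variable {G : Type u} [Group G] [Finite G]

theorem Hyp.cent (h : Hyp G) {x g : G} (hx : orderOf x = 7) (hg : g * x = x * g) :
    g ∈ zpowers x := by
  set C := centralizer ({x} : Set G)
  have hle : zpowers x ≤ C := by
    rw [zpowers_le]; exact mem_centralizer_singleton_iff.2 rfl
  have hd7 : 7 ∣ Nat.card C := by
    have := card_dvd_of_le hle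
    rwa [Nat.card_zpowers, hx] at this
  have hdC : Nat.card C ∣ 12096 := h.card ▸ card_subgroup_dvd_card C
  have hnq : ∀ q, q.Prime → q ≠ 7 → (q = 2 ∨ q = 3) → ¬ q ∣ Nat.card C := by
    intro q hq hq7 hq' hdvd
    haveI := Fact.mk hq
    obtain ⟨z, hz⟩ := exists_prime_orderOf_dvd_card' (G := C) q hdvd
    have hzx : Commute (z : G) x := mem_centralizer_singleton_iff.1 z.2
    have hco := hzx.orderOf_mul_eq_mul_orderOf_of_coprime (by
      rw [Subgroup.orderOf_coe, hz, hx]
      exact (Nat.coprime_primes hq (by norm_num)).2 hq7)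
    rw [Subgroup.orderOf_coe, hz, hx] at hco
    rcases hq' with rfl | rfl
    · exact h.no14 _ (by rw [hco])
    · exact h.no21 _ (by rw [hco])
  have hC : Nat.card C = 7 := by
    obtain ⟨k, hk⟩ := hd7
    have h2 := hnq 2 Nat.prime_two (by norm_num) (Or.inl rfl)
    have h3 := hnq 3 Nat.prime_three (by norm_num) (Or.inr rfl)
    have hk' : k ∣ 1728 := by
      rw [hk, show (12096 : ℕ) = 7 * 1728 by norm_num] at hdC
      exact Nat.dvd_of_mul_dvd_mul_left (by norm_num) hdC
    have h2k : ¬ 2 ∣ k := fun e => h2 (hk ▸ e.mul_left 7)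
    have h3k : ¬ 3 ∣ k := fun e => h3 (hk ▸ e.mul_left 7)
    have hcop : Nat.Coprime k 1728 := by
      rw [show (1728 : ℕ) = 2 ^ 6 * 3 ^ 3 by norm_num]
      exact Nat.Coprime.mul_right
        (Nat.Coprime.pow_right 6 ((Nat.prime_two.coprime_iff_not_dvd.2 h2k).symm))
        (Nat.Coprime.pow_right 3 ((Nat.prime_three.coprime_iff_not_dvd.2 h3k).symm))
    rw [hk, Nat.eq_one_of_dvd_coprimes hcop dvd_rfl hk', mul_one]
  have heq : zpowers x = C :=
    eq_of_le_of_card_ge hle (by rw [hC, Nat.card_zpowers, hx])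
  exact heq ▸ mem_centralizer_singleton_iff.2 hg

theorem Hyp.cent_card (h : Hyp G) {x : G} (hx : orderOf x = 7) :
    Nat.card (centralizer ({x} : Set G)) = 7 := by
  have : centralizer ({x} : Set G) = zpowers x := le_antisymm
    (fun g hg => h.cent hx (mem_centralizer_singleton_iff.1 hg))
    (zpowers_le.2 (mem_centralizer_singleton_iff.2 rfl))
  rw [this, Nat.card_zpowers, hx]

/-- Powers of an element inducing cubing. -/
theorem conj_pow_eq {x y : G} (hy : y * x * y⁻¹ = x ^ 3) :
    ∀ j : ℕ, y ^ j * x * (y ^ j)⁻¹ = x ^ 3 ^ j := by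
  intro j
  induction j with
  | zero => simp
  | succ j ih =>
    calc y ^ (j + 1) * x * (y ^ (j + 1))⁻¹ = y * (y ^ j * x * (y ^ j)⁻¹) * y⁻¹ := by
          rw [pow_succ']; group
      _ = x ^ 3 ^ (j + 1) := by rw [ih, ← conj_pow, hy, ← pow_mul, ← pow_succ']

theorem exists_pow_three : ∀ a : ZMod 7, a ≠ 0 → ∃ j < 6, a = 3 ^ j := by decide

theorem fac_seven : (12096 : ℕ).factorization 7 = 1 := by
  rw [show (12096 : ℕ) = 7 ^ 1 * 1728 by norm_num, Nat.factorization_mul (by norm_num) (by norm_num),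
    Nat.Prime.factorization_pow (by norm_num)]
  simp [Nat.factorization_eq_zero_of_not_dvd (show ¬ 7 ∣ 1728 by norm_num)]

theorem fac_two : (12096 : ℕ).factorization 2 = 6 := by
  rw [show (12096 : ℕ) = 2 ^ 6 * 189 by norm_num, Nat.factorization_mul (by norm_num) (by norm_num),
    Nat.Prime.factorization_pow Nat.prime_two]
  simp [Nat.factorization_eq_zero_of_not_dvd (show ¬ 2 ∣ 189 by norm_num)]

theorem exists_abelian (M : Type u) [Group M] [Group.IsSolvable M] [Nontrivial M] :
    ∃ A : Subgroup M, A.Characteristic ∧ A ≠ ⊥ ∧ IsMulCommutative A := by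
  classical
  have hex : ∃ n, derivedSeries M n = ⊥ := Group.IsSolvable.solvable (G := M)
  have hspec := Nat.find_spec hex
  rcases hn : Nat.find hex with _ | n
  · rw [hn, derivedSeries_zero] at hspec
    exact absurd hspec top_ne_bot
  · rw [hn, derivedSeries_succ] at hspec
    refine ⟨derivedSeries M n, inferInstance, Nat.find_min hex (by omega), ⟨⟨fun a b => Subtype.ext ?_⟩⟩⟩
    have := Subgroup.commutator_mem_commutator a.2 b.2
    rw [hspec, Subgroup.mem_bot, commutatorElement_eq_one_iff_mul_comm] at this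
    exact this

theorem orderOf_three : orderOf ((3 : ℕ) : ZMod 7) = 7 - 1 := by
  rw [orderOf_eq_iff (by norm_num)]
  exact ⟨by decide, fun m hm h0 => by interval_cases m <;> decide⟩

theorem seven_arith : ∀ n ∈ Nat.divisors 1728, n % 7 = 1 → 288 ≤ n → n = 288 := by decide +kernel

/-- A pair generating the normalizer of a Sylow seven-subgroup. -/
structure Frame (G : Type u) [Group G] : Type u where
  x : G
  y : G
  hx : orderOf x = 7
  hy : orderOf y = 6
  conj : y * x * y⁻¹ = x ^ 3
  sylow : Nat.card (Sylow 7 G) = 288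
  norm : ∀ g : G, g * x * g⁻¹ ∈ zpowers x → ∃ i j : ℕ, j < 6 ∧ g = x ^ i * y ^ j
  normCard : Nat.card (normalizer (zpowers x : Set G)) = 42

theorem Hyp.exists_frame (h : Hyp G) : Nonempty (Frame G) := by
  classical
  haveI : Fact (Nat.Prime 7) := ⟨by norm_num⟩
  obtain ⟨x, hx⟩ := exists_prime_orderOf_dvd_card' (G := G) 7 (by rw [h.card]; norm_num)
  have hP : Nat.card (zpowers x) = 7 := by rw [Nat.card_zpowers, hx]
  set P := zpowers x with hPdef
  have hfac : Nat.card P = 7 ^ (Nat.card G).factorization 7 := by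
    rw [hP, h.card, fac_seven, pow_one]
  let S : Sylow 7 G := Sylow.ofCard P hfac
  set N := normalizer (P : Set G) with hN
  have hn : Nat.card (Sylow 7 G) = N.index := S.card_eq_index_normalizer
  set C := centralizer (P : Set G) with hC
  have hCP : C = P := le_antisymm
    (fun g hg => h.cent hx (Subgroup.mem_centralizer_iff.1 hg x (mem_zpowers x)).symm)
    (by
      haveI : IsMulCommutative P := inferInstance
      exact Subgroup.le_centralizer P)
  let φ := Subgroup.normalizerMonoidHom P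
  have hkerφ : φ.ker = C.subgroupOf N := Subgroup.normalizerMonoidHom_ker P
  haveI : IsCyclic P := isCyclic_of_prime_card hP
  have haut : Nat.card (MulAut P) = 6 := by
    rw [IsCyclic.card_mulAut, hP, Nat.totient_prime (by norm_num)]
  have hCN : C ≤ N := centralizer_le_normalizer _
  have hker : Nat.card φ.ker = 7 := by
    rw [hkerφ, Nat.card_congr (subgroupOfEquivOfLe hCN).toEquiv, hCP, hP]
  have hrange : Nat.card φ.range ∣ 6 := haut ▸ card_subgroup_dvd_card φ.range
  have hNc : Nat.card N = 7 * Nat.card φ.range := by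
    rw [← hker, ← Subgroup.index_ker, Subgroup.card_mul_index]
  have hmul := N.card_mul_index
  rw [h.card, hNc] at hmul
  have hmod : N.index % 7 = 1 := by
    have := card_sylow_modEq_one 7 G
    rw [hn] at this
    exact this
  have hr : Nat.card φ.range = 6 ∧ N.index = 288 := by
    have hle := Nat.le_of_dvd (by norm_num) hrange
    have hge : 288 ≤ N.index := by
      by_contra hlt
      push Not at hlt
      have := Nat.mul_le_mul (Nat.mul_le_mul_left 7 hle) (show N.index ≤ 287 by omega)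
      omega
    have hd : N.index ∈ Nat.divisors 1728 := Nat.mem_divisors.2 ⟨⟨Nat.card φ.range, by
      refine (Nat.eq_of_mul_eq_mul_left (show 0 < 7 by norm_num) ?_).symm
      linarith [show 7 * (N.index * Nat.card φ.range) = 7 * Nat.card φ.range * N.index by ring]⟩, by norm_num⟩
    have := seven_arith _ hd hmod hge
    rw [this] at hmul
    exact ⟨by omega, this⟩
  have htop : φ.range = ⊤ := eq_top_of_card_eq _ (by rw [hr.1, haut])
  letI : CommGroup P := IsCyclic.commGroup
  obtain ⟨⟨y, hyN⟩, hyeq⟩ : MulEquiv.ofBijective (powMonoidHom 3 : P →* P)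
      (powCoprime (G := P) (n := 3) (by rw [hP]; norm_num)).bijective ∈ φ.range :=
    htop ▸ Subgroup.mem_top _
  have hconj : y * x * y⁻¹ = x ^ 3 := by
    have := congrArg (fun a : MulAut P => ((a ⟨x, mem_zpowers x⟩ : P) : G)) hyeq
    exact this
  have hpow := conj_pow_eq hconj
  have hx7 : x ^ 7 = 1 := hx ▸ pow_orderOf_eq_one x
  have hy6 : y ^ 6 = 1 := by
    have hc : y ^ 6 * x = x * y ^ 6 := by
      refine mul_inv_eq_iff_eq_mul.1 ?_
      rw [hpow, ← pow_mod_orderOf, hx]
      norm_num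
    obtain ⟨k, hk⟩ := mem_zpowers_iff.1 (h.cent hx hc)
    have h1 : (x ^ 3) ^ k = x ^ k := by
      rw [← hconj, conj_zpow, hk]
      group
    have h2 : (x ^ k) ^ 2 = 1 := by
      have h3 : (x ^ k) ^ 3 = x ^ k := by
        rw [← zpow_natCast (x ^ k) 3, ← zpow_mul, mul_comm, zpow_mul, zpow_natCast, h1]
      rw [pow_succ] at h3
      exact mul_eq_right.1 h3
    have h7 : (x ^ k) ^ 7 = 1 := by
      rw [← zpow_natCast, ← zpow_mul, mul_comm, zpow_mul, zpow_natCast, hx7, one_zpow]
    have h1' : (x ^ k) ^ Nat.gcd 2 7 = 1 := pow_gcd_eq_one.2 ⟨h2, h7⟩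
    rw [← hk]
    simpa using h1'
  have hne : ∀ j, j < 6 → 0 < j → y ^ j ≠ 1 := by
    intro j hj hj0 hj1
    have := hpow j
    rw [hj1, one_mul, inv_one, mul_one] at this
    nth_rewrite 1 [← pow_one x] at this
    rw [pow_eq_pow_iff_modEq, hx] at this
    interval_cases j <;> exact absurd this (by decide)
  have hyo : orderOf y = 6 := (orderOf_eq_iff (by norm_num)).2 ⟨hy6, hne⟩
  refine ⟨⟨x, y, hx, hyo, hconj, by rw [hn, hr.2], fun g hg => ?_, by rw [hNc, hr.1]⟩⟩
  obtain ⟨k, hk⟩ := mem_zpowers_iff.1 hg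
  obtain ⟨n, hn'⟩ : ∃ n : ℕ, x ^ k = x ^ n := ⟨(k % 7).toNat, by
    rw [← zpow_natCast, Int.toNat_of_nonneg (Int.emod_nonneg _ (by norm_num)),
      ← zpow_mod_orderOf, hx]; rfl⟩
  rw [hn'] at hk
  have hn0 : (n : ZMod 7) ≠ 0 := fun e => by
    have h1 : x ^ n = 1 := orderOf_dvd_iff_pow_eq_one.1 (hx ▸ (ZMod.natCast_eq_zero_iff n 7).1 e)
    rw [h1] at hk
    rw [conj_eq_one_iff.1 hk.symm, orderOf_one] at hx
    norm_num at hx
  obtain ⟨j, hj6, hj⟩ : ∃ j < 6, (n : ZMod 7) = (3 : ZMod 7) ^ j :=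
    exists_pow_three _ hn0
  have hxn : x ^ n = x ^ 3 ^ j := by
    rw [pow_eq_pow_iff_modEq, hx, ← ZMod.natCast_eq_natCast_iff]
    push_cast
    exact hj
  rw [hxn, ← hpow j] at hk
  have hc : ((y ^ j)⁻¹ * g) * x = x * ((y ^ j)⁻¹ * g) := by
    calc ((y ^ j)⁻¹ * g) * x = (y ^ j)⁻¹ * (g * x * g⁻¹) * g := by group
      _ = x * ((y ^ j)⁻¹ * g) := by rw [← hk]; group
  obtain ⟨i, hi⟩ := mem_zpowers_iff.1 (h.cent hx hc)
  obtain ⟨i', hi'⟩ : ∃ i' : ℕ, y ^ j * x ^ i * (y ^ j)⁻¹ = x ^ i' := ⟨(((3 : ℤ) ^ j * i) % 7).toNat, by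
    rw [← conj_zpow, hpow, ← zpow_natCast x (3 ^ j), ← zpow_mul, ← zpow_natCast,
      Int.toNat_of_nonneg (Int.emod_nonneg _ (by norm_num)),
      show ((3 : ℤ) ^ j * i) % 7 = ((3 : ℤ) ^ j * i) % ((orderOf x : ℕ) : ℤ) by rw [hx]; rfl,
      zpow_mod_orderOf]
    push_cast; rfl⟩
  refine ⟨i', j, hj6, ?_⟩
  rw [← hi', hi]
  group

/-! ### No solvable normal subgroups -/

theorem Hyp.no_pgroup (h : Hyp G) (F : Frame G) {q : ℕ} (hq : q = 2 ∨ q = 3) (M : Subgroup G)
    [hM : M.Normal] (hp : IsPGroup q M) : M = ⊥ := by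
  classical
  haveI : Fact q.Prime := ⟨by rcases hq with rfl | rfl <;> norm_num⟩
  haveI : Fact (Nat.Prime 7) := ⟨by norm_num⟩
  by_contra hb
  let A : Subgroup G :=
    { carrier := {z | z ∈ M ∧ (∀ m ∈ M, m * z = z * m) ∧ z ^ q = 1}
      one_mem' := ⟨one_mem M, fun m _ => by simp, one_pow _⟩
      mul_mem' := fun {a b} ha hb => ⟨mul_mem ha.1 hb.1, fun m hm => by
        rw [← mul_assoc, ha.2.1 m hm, mul_assoc, hb.2.1 m hm, ← mul_assoc],
        by rw [(show Commute a b from hb.2.1 a ha.1).mul_pow, ha.2.2, hb.2.2, one_mul]⟩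
      inv_mem' := fun {a} ha => ⟨inv_mem ha.1, fun m hm =>
        ((show Commute m a from ha.2.1 m hm).inv_right).eq,
        by rw [inv_pow, ha.2.2, inv_one]⟩ }
  have hmemA : ∀ {z : G}, z ∈ A ↔ z ∈ M ∧ (∀ m ∈ M, m * z = z * m) ∧ z ^ q = 1 := Iff.rfl
  have hAconj : ∀ z ∈ A, ∀ g : G, g * z * g⁻¹ ∈ A := by
    intro z hz g
    obtain ⟨h1, h2, h3⟩ := hmemA.1 hz
    refine ⟨hM.conj_mem z h1 g, fun m hm => ?_, by rw [conj_pow, h3]; group⟩
    have := h2 _ (by simpa using hM.conj_mem m hm g⁻¹)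
    calc m * (g * z * g⁻¹) = g * ((g⁻¹ * m * g) * z) * g⁻¹ := by group
      _ = g * (z * (g⁻¹ * m * g)) * g⁻¹ := by rw [this]
      _ = (g * z * g⁻¹) * m := by group
  have hA1 : A ≠ ⊥ := by
    haveI : Nontrivial M := (Subgroup.nontrivial_iff_ne_bot M).2 hb
    haveI := hp.center_nontrivial
    obtain ⟨z, hz⟩ := exists_prime_orderOf_dvd_card' (G := Subgroup.center M) q (by
      obtain ⟨k, hk⟩ := (hp.to_subgroup (Subgroup.center M)).exists_card_eq
      rcases k with _ | k
      · rw [pow_zero] at hk; exact absurd hk Finite.one_lt_card.ne'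
      · rw [hk, pow_succ]; exact dvd_mul_left q _)
    intro e
    have hzA : ((z : M) : G) ∈ A := ⟨(z : M).2, fun m hm =>
      congrArg Subtype.val (Subgroup.mem_center_iff.1 z.2 ⟨m, hm⟩), by
        rw [← SubmonoidClass.coe_pow, ← SubmonoidClass.coe_pow, ← hz, pow_orderOf_eq_one]; rfl⟩
    rw [e, Subgroup.mem_bot] at hzA
    have : z = 1 := Subtype.ext (Subtype.ext hzA)
    rw [this, orderOf_one] at hz
    exact (Fact.out : q.Prime).one_lt.ne hz
  have hcomm : ∀ a ∈ A, ∀ b ∈ A, a * b = b * a := fun a ha b hb => (hb.2.1 a ha.1)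
  have hAM : A ≤ M := fun z hz => (hmemA.1 hz).1
  obtain ⟨k, hk⟩ := (hp.to_le hAM).exists_card_eq
  have hfix : Nat.card A ≡ 1 [MOD 7] := by
    let f : A → A := fun a => ⟨F.x * a * F.x⁻¹, hAconj a a.2 F.x⟩
    have hfi : Function.Injective f := fun a b e =>
      Subtype.ext (mul_left_cancel (mul_right_cancel (congrArg Subtype.val e)))
    let σ : Equiv.Perm A := Equiv.ofBijective f (Finite.injective_iff_bijective.1 hfi)
    have hp' : ∀ (n : ℕ) (a : A), ((σ ^ n) a : G) = F.x ^ n * a * (F.x ^ n)⁻¹ := by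
      intro n
      induction n with
      | zero => simp
      | succ n ih =>
        intro a
        rw [pow_succ', Equiv.Perm.mul_apply]
        show F.x * ((σ ^ n) a : G) * F.x⁻¹ = _
        rw [ih, pow_succ', mul_inv_rev]
        group
    have h7 := CfsgLib.Char.SmallGraph.card_fixed_modEq (r := 7) σ (Equiv.ext fun a =>
      Subtype.ext (by rw [hp', ← F.hx, pow_orderOf_eq_one]; simp))
    have hone : Nat.card {a : A // σ a = a} = 1 := by
      rw [Nat.card_eq_one_iff_unique]
      refine ⟨⟨fun a b => ?_⟩, ⟨⟨1, Subtype.ext (by show F.x * 1 * F.x⁻¹ = 1; group)⟩⟩⟩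
      have key : ∀ c : A, σ c = c → c = 1 := by
        intro c hc
        have hc' : (c : G) * F.x = F.x * (c : G) :=
          (mul_inv_eq_iff_eq_mul.1 (congrArg Subtype.val hc)).symm
        have h1 : orderOf (c : G) ∣ q := orderOf_dvd_of_pow_eq_one (hmemA.1 c.2).2.2
        have h2 : orderOf (c : G) ∣ 7 := by
          have := Subgroup.orderOf_dvd_natCard _ (h.cent F.hx hc')
          rwa [Nat.card_zpowers, F.hx] at this
        have h3 := Nat.dvd_gcd h1 h2
        refine Subtype.ext (orderOf_eq_one_iff.1 (Nat.dvd_one.1 ?_))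
        rcases hq with rfl | rfl <;> simpa using h3
      exact Subtype.ext ((key _ a.2).trans (key _ b.2).symm)
    rwa [hone] at h7
  have hkd : q ^ k ∣ 12096 := by rw [← hk, ← h.card]; exact card_subgroup_dvd_card A
  have hk0 : k ≠ 0 := by
    rintro rfl
    exact hA1 ((Subgroup.card_eq_one).1 (by rw [hk, pow_zero]))
  rw [hk] at hfix
  have hk6 : q = 2 ∧ (k = 3 ∨ k = 6) := by
    have hk7 : k < 7 := by
      by_contra hge
      push Not at hge
      have h1 := (pow_dvd_pow q hge).trans hkd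
      rcases hq with rfl | rfl <;> norm_num at h1
    rcases hq with rfl | rfl <;> interval_cases k <;>
      first
        | exact absurd hfix (by decide)
        | exact absurd hkd (by decide)
        | exact absurd rfl hk0
        | simp
  obtain ⟨rfl, hk3 | hk6'⟩ := hk6
  · -- a module of order eight
    rw [hk3] at hk
    obtain ⟨v, hv, hv1⟩ := A.bot_or_exists_ne_one.resolve_left hA1
    have hsq : ∀ a ∈ A, a * a = 1 := fun a ha => by rw [← pow_two]; exact (hmemA.1 ha).2.2
    set x := F.x with hxdef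
    have hc : ∀ n : ℕ, x ^ n * v * (x ^ n)⁻¹ ∈ A := fun n => hAconj v hv _
    have hstab : ∀ n : ℕ, ¬ 7 ∣ n → x ^ n * v * (x ^ n)⁻¹ ≠ v := by
      intro n hn he
      have hcm : Commute v (x ^ n) := ((mul_inv_eq_iff_eq_mul.1 he).symm : v * x ^ n = x ^ n * v)
      obtain ⟨t, ht⟩ : ∃ t, n * t % 7 = 1 := by
        obtain ⟨t, -, ht⟩ := (show ∀ r < 7, r ≠ 0 → ∃ t < 7, r * t % 7 = 1 by decide) (n % 7)
          (Nat.mod_lt _ (by norm_num)) (fun e => hn (Nat.dvd_of_mod_eq_zero e))
        exact ⟨t, by rw [Nat.mul_mod, Nat.mod_mod] at ht; rw [Nat.mul_mod]; exact ht⟩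
      have hvx : v * x = x * v := by
        have := (hcm.pow_right t).eq
        rwa [← pow_mul, ← pow_mod_orderOf, hxdef, F.hx, ht, pow_one] at this
      have h2 := Subgroup.orderOf_dvd_natCard _ (h.cent F.hx hvx)
      rw [Nat.card_zpowers, F.hx] at h2
      have h3 := Nat.dvd_gcd (orderOf_dvd_of_pow_eq_one (hmemA.1 hv).2.2) h2
      exact hv1 (orderOf_eq_one_iff.1 (Nat.dvd_one.1 (by simpa using h3)))
    let W : ℕ → G := fun n => x ^ n * v * (x ^ n)⁻¹
    have hWA : ∀ n, W n ∈ A := hc
    have hne : ∀ m n : ℕ, m < n → n < m + 7 → W m ≠ W n := by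
      intro m n hmn hn7 e
      refine hstab (n - m) (fun hd => by have := Nat.le_of_dvd (by omega) hd; omega) ?_
      obtain ⟨d, rfl⟩ := Nat.exists_eq_add_of_le hmn.le
      rw [Nat.add_sub_cancel_left]
      have e' : x ^ m * v * (x ^ m)⁻¹ = x ^ m * (x ^ d * v * (x ^ d)⁻¹) * (x ^ m)⁻¹ := by
        refine e.trans ?_
        show x ^ (m + d) * v * (x ^ (m + d))⁻¹ = _
        rw [pow_add]; group
      exact (mul_left_cancel (mul_right_cancel e')).symm
    have hshift : ∀ a b c n : ℕ, W a * W b = W c → W (a + n) * W (b + n) = W (c + n) := by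
      intro a b c n e
      have e2 : ∀ j, W (j + n) = x ^ n * W j * (x ^ n)⁻¹ := fun j => by
        show x ^ (j + n) * v * (x ^ (j + n))⁻¹ = x ^ n * (x ^ j * v * (x ^ j)⁻¹) * (x ^ n)⁻¹
        rw [show x ^ (j + n) = x ^ n * x ^ j by rw [← pow_add, add_comm]]; group
      rw [e2, e2, e2, ← e]; group
    have hswap : ∀ a b c : ℕ, W a * W b = W c → W c * W b = W a := fun a b c e => by
      rw [← e, mul_assoc, hsq _ (hWA b), mul_one]
    have hswap' : ∀ a b c : ℕ, W a * W b = W c → W b * W a = W c := fun a b c e => by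
      rw [hcomm _ (hWA b) _ (hWA a)]; exact e
    -- the inverting element
    obtain ⟨u, hu⟩ : ∃ u : G, u * x * u⁻¹ = x⁻¹ := ⟨F.y ^ 3, by
      rw [conj_pow_eq F.conj, hxdef, eq_inv_iff_mul_eq_one, ← pow_succ, ← pow_mod_orderOf, F.hx]
      norm_num⟩
    have hper : ∀ n, W (n + 7) = W n := fun n => by
      show x ^ (n + 7) * v * (x ^ (n + 7))⁻¹ = _
      rw [pow_add, show x ^ 7 = 1 by rw [hxdef, ← F.hx, pow_orderOf_eq_one], mul_one]
    -- eight elements
    have hWinj : Set.InjOn W (Set.Iio 7) := fun a ha b hb e => by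
      rcases lt_trichotomy a b with hlt | heq | hgt
      · exact absurd e (hne a b hlt (by have := Set.mem_Iio.1 hb; omega))
      · exact heq
      · exact absurd e.symm (hne b a hgt (by have := Set.mem_Iio.1 ha; omega))
    have hW1 : ∀ n, W n ≠ 1 := fun n e => hv1 (conj_eq_one_iff.1 e)
    have hall : ∀ a ∈ A, a ≠ 1 → ∃ n < 7, W n = a := by
      haveI := Fintype.ofFinite A
      let T : Finset A := (Finset.range 7).image fun n => (⟨W n, hWA n⟩ : A)
      have hT : T = Finset.univ.erase 1 := by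
        refine Finset.eq_of_subset_of_card_le (fun a ha => ?_) ?_
        · obtain ⟨n, -, rfl⟩ := Finset.mem_image.1 ha
          exact Finset.mem_erase.2 ⟨fun e => hW1 n (congrArg Subtype.val e), Finset.mem_univ _⟩
        · rw [Finset.card_erase_of_mem (Finset.mem_univ _), Finset.card_univ,
            ← Nat.card_eq_fintype_card, hk, Finset.card_image_of_injOn (fun a ha b hb e =>
              hWinj (by simpa using ha) (by simpa using hb) (congrArg Subtype.val e)),
            Finset.card_range]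
          norm_num
      intro a ha ha1
      have : (⟨a, ha⟩ : A) ∈ T := hT ▸ Finset.mem_erase.2
        ⟨fun e => ha1 (congrArg Subtype.val e), Finset.mem_univ _⟩
      obtain ⟨n, hn, he⟩ := Finset.mem_image.1 this
      exact ⟨n, Finset.mem_range.1 hn, congrArg Subtype.val he⟩
    obtain ⟨n, hn, hn'⟩ := hall _ (mul_mem (hWA 0) (hWA 1)) (fun e => hne 0 1 (by norm_num)
      (by norm_num) (by rw [← mul_one (W 0), ← hsq _ (hWA 1), ← mul_assoc, e, one_mul]))
    have key : W 0 * W 1 = W n := hn'.symm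
    have hn2 : n ≠ 0 ∧ n ≠ 1 := by
      refine ⟨fun e => ?_, fun e => ?_⟩ <;> subst e
      · exact hW1 1 (mul_eq_left.1 key)
      · exact hW1 0 (mul_eq_right.1 key)
    -- the relation at `1` inverted
    obtain ⟨l, hl, hl'⟩ := hall _ (hAconj v hv u) (fun e => hv1 (conj_eq_one_iff.1 e))
    have hflip : ∀ j : ℕ, j < 8 → u * W j * u⁻¹ = W (l + 7 * j - j) := by
      intro j hj
      show u * (x ^ j * v * (x ^ j)⁻¹) * u⁻¹ = x ^ (l + 7 * j - j) * v * (x ^ (l + 7 * j - j))⁻¹
      have hxj : x ^ (l + 7 * j - j) = (x ^ j)⁻¹ * x ^ l := by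
        rw [eq_inv_mul_iff_mul_eq, ← pow_add, show j + (l + 7 * j - j) = l + 7 * j by omega, pow_add,
          pow_mul, show x ^ 7 = 1 by rw [hxdef, ← F.hx, pow_orderOf_eq_one], one_pow, mul_one]
      have hux : u * x ^ j * u⁻¹ = (x ^ j)⁻¹ := by rw [← conj_pow, hu, inv_pow]
      calc u * (x ^ j * v * (x ^ j)⁻¹) * u⁻¹
          = (u * x ^ j * u⁻¹) * (u * v * u⁻¹) * (u * x ^ j * u⁻¹)⁻¹ := by group
        _ = (x ^ j)⁻¹ * W l * x ^ j := by rw [hux, hl', inv_inv]
        _ = _ := by rw [hxj]; simp only [W]; group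
    have key2 : W (l + 0) * W (l + 6) = W (l + 7 * n - n) := by
      have := congrArg (fun g => u * g * u⁻¹) key
      rw [← hflip n (by omega), ← this, show u * (W 0 * W 1) * u⁻¹ = (u * W 0 * u⁻¹) * (u * W 1 * u⁻¹) by group,
        hflip 0 (by norm_num), hflip 1 (by norm_num)]
      congr 1 <;> (congr 1; try omega)
    -- normalised: `W 0 * W 6 = W (6 n)`
    have hp7 : ∀ m j : ℕ, W (m + 7 * j) = W m := by
      intro m j
      induction j with
      | zero => rfl
      | succ j ih => rw [show m + 7 * (j + 1) = m + 7 * j + 7 by ring, hper, ih]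
    have key3 : W 0 * W 6 = W (6 * n) := by
      have := hshift _ _ _ (6 * l) key2
      rwa [show l + 0 + 6 * l = 0 + 7 * l by ring, show l + 6 + 6 * l = 6 + 7 * l by ring,
        show l + 7 * n - n + 6 * l = 6 * n + 7 * l by omega, hp7, hp7, hp7] at this
    -- shift by one: `W 1 * W 0 = W (6 n + 1)`
    have key4 := hshift _ _ _ 1 key3
    rw [show (6 : ℕ) + 1 = 0 + 7 * 1 from rfl, hp7] at key4
    have hfin : W n = W ((6 * n + 1) % 7) := by
      rw [← key, hswap' _ _ _ key4]
      nth_rewrite 1 [← Nat.mod_add_div (6 * n + 1) 7]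
      rw [hp7]
    have := hWinj (Set.mem_Iio.2 hn) (Set.mem_Iio.2 (Nat.mod_lt _ (by norm_num))) hfin
    have hn4 : n = 4 := by omega
    subst hn4
    -- `W 0 * W 1 = W 4`, so `W 4 * W 1 = W 0`, impossible together with the shifts
    have e1 := hshift _ _ _ 3 key
    have e2 := hswap _ _ _ key
    have e3 := hshift _ _ _ 4 key
    rw [show (4 : ℕ) + 3 = 0 + 7 * 1 from rfl, hp7, zero_add] at e1
    norm_num at e1
    -- e1 : W 3 * W 4 = W 0, e2 : W 4 * W 1 = W 0
    have : W 3 = W 1 := by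
      have h4 : W 4 * W 3 = W 4 * W 1 := by rw [hswap' _ _ _ e1, e2]
      exact mul_left_cancel h4
    exact hne 1 3 (by norm_num) (by norm_num) this.symm
  · -- the whole Sylow two-subgroup
    rw [hk6'] at hk
    obtain ⟨g, hg⟩ := h.four
    have hpz : IsPGroup 2 (zpowers g) := IsPGroup.of_card (n := 2) (by rw [Nat.card_zpowers, hg]; rfl)
    obtain ⟨Q, hQ⟩ := hpz.exists_le_sylow
    haveI : A.Normal := ⟨hAconj⟩
    obtain ⟨R, hR⟩ := (IsPGroup.of_card (p := 2) hk).exists_le_sylow
    obtain ⟨c, hc⟩ := MulAction.exists_smul_eq G R Q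
    have hAQ : A ≤ (Q : Subgroup G) := by
      intro a ha
      rw [← hc, Sylow.coe_subgroup_smul]
      exact ⟨c⁻¹ * a * c, hR (by simpa using hAconj a ha c⁻¹), by
        simp [MulAut.conj_apply]; group⟩
    have hQA : (Q : Subgroup G) = A := (eq_of_le_of_card_ge hAQ (by
      rw [hk, Q.card_eq_multiplicity, h.card, fac_two])).symm
    have := (hmemA.1 (hQA ▸ hQ (mem_zpowers g))).2.2
    have h4 := orderOf_dvd_of_pow_eq_one this
    rw [hg] at h4
    norm_num at h4

/-! ### The subgroup generated by the elements of order seven -/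

theorem pair_contains {T : Subgroup G} [T.Normal] {x : G} (hx : x ∈ T) (hxo : orderOf x = 7)
    (h : Hyp G) {w : G} (hw : orderOf w = 7) : w ∈ T := by
  haveI : Fact (Nat.Prime 7) := ⟨by norm_num⟩
  have hS : ∀ g : G, orderOf g = 7 → ∃ S : Sylow 7 G, (S : Subgroup G) = zpowers g := by
    intro g hg
    refine ⟨Sylow.ofCard (zpowers g) ?_, rfl⟩
    rw [Nat.card_zpowers, hg, h.card, fac_seven, pow_one]
  obtain ⟨S, hS'⟩ := hS x hxo
  obtain ⟨S', hS''⟩ := hS w hw
  obtain ⟨g, hg⟩ := MulAction.exists_smul_eq G S S'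
  have : w ∈ (S' : Subgroup G) := hS'' ▸ mem_zpowers w
  rw [← hg, Sylow.coe_subgroup_smul, hS'] at this
  obtain ⟨z, hz, rfl⟩ := this
  exact (inferInstance : T.Normal).conj_mem z ((zpowers_le.2 hx) hz) g

/-- The core `T` with the action on it. -/
structure Core {G : Type u} [Group G] (F : Frame G) : Type u where
  T : Subgroup G
  normal : T.Normal
  simple : IsSimpleGroup T
  noncomm : ¬ IsMulCommutative T
  x_mem : F.x ∈ T
  cases : (Nat.card T = 12096 ∧ T = ⊤) ∨ (Nat.card T = 6048 ∧ T.index = 2 ∧ F.y ∉ T ∧ F.y ^ 2 ∈ T)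

theorem two_three_dvd : ∀ d ∈ Nat.divisors 42, 7 ∣ d → d = 7 ∨ d = 14 ∨ d = 21 ∨ d = 42 := by
  decide +kernel

theorem Hyp.exists_core (h : Hyp G) (F : Frame G) : Nonempty (Core F) := by
  classical
  haveI : Fact (Nat.Prime 7) := ⟨by norm_num⟩
  set T : Subgroup G := normalClosure {F.x} with hTdef
  haveI hTn : T.Normal := normalClosure_normal
  have hxT : F.x ∈ T := subset_normalClosure rfl
  have hmin : ∀ M : Subgroup G, M.Normal → F.x ∈ M → T ≤ M := fun M hM hxM => by
    haveI := hM; exact normalClosure_le_normal (by simpa using hxM)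
  have hxne : F.x ≠ 1 := fun e => by
    have := F.hx; rw [e, orderOf_one] at this; norm_num at this
  haveI : Nontrivial T := ⟨⟨⟨F.x, hxT⟩, 1, fun e => hxne (congrArg Subtype.val e)⟩⟩
  haveI hsimp : IsSimpleGroup T := by
    refine ⟨fun M hM => ?_⟩
    by_cases h7 : 7 ∣ Nat.card M
    · right
      haveI := hM
      obtain ⟨w, hw⟩ := exists_prime_orderOf_dvd_card' (G := M) 7 h7
      have hw' : orderOf ((w : T) : G) = 7 := by rw [Subgroup.orderOf_coe, Subgroup.orderOf_coe, hw]
      have hS7 : ∀ g : T, orderOf g = 7 → g ∈ M := by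
        intro g hg
        have hTP : ∀ g : T, orderOf g = 7 → ∃ S : Sylow 7 T, (S : Subgroup T) = zpowers g := by
          intro g hg
          refine ⟨Sylow.ofCard (zpowers g) ?_, rfl⟩
          rw [Nat.card_zpowers, hg]
          have hd := Subgroup.card_subgroup_dvd_card T
          rw [h.card] at hd
          have h1 : 7 ∣ Nat.card T := hg ▸ orderOf_dvd_natCard g
          have h2 : ¬ 7 ^ 2 ∣ Nat.card T := fun e => by
            have := e.trans hd; norm_num at this
          have h3 : (Nat.card T).factorization 7 = 1 := by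
            have a1 := ((Nat.Prime.dvd_iff_one_le_factorization (by norm_num) Nat.card_pos.ne').1 h1)
            have a2 : ¬ 2 ≤ (Nat.card T).factorization 7 := fun e =>
              h2 ((Nat.Prime.pow_dvd_iff_le_factorization (by norm_num) Nat.card_pos.ne').2 e)
            omega
          rw [h3, pow_one]
        obtain ⟨S, hS⟩ := hTP g hg
        obtain ⟨S', hS'⟩ := hTP w (by rw [Subgroup.orderOf_coe, hw])
        obtain ⟨c, hc⟩ := MulAction.exists_smul_eq T S' S
        have hmem : g ∈ (S : Subgroup T) := hS ▸ mem_zpowers g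
        rw [← hc, Sylow.coe_subgroup_smul, hS'] at hmem
        obtain ⟨z, hz, rfl⟩ := hmem
        exact hM.conj_mem z ((zpowers_le.2 w.2) hz) c
      refine eq_top_iff.2 fun t _ => ?_
      have hle : T ≤ (M.map T.subtype) := by
        refine Subgroup.closure_le _ |>.2 fun g hg => ?_
        obtain ⟨_, rfl, hc⟩ := Group.mem_conjugatesOfSet_iff.1 hg
        obtain ⟨c, rfl⟩ := isConj_iff.1 hc
        have hgT : c * F.x * c⁻¹ ∈ T := hTn.conj_mem _ hxT c
        exact ⟨⟨_, hgT⟩, hS7 _ (by
          rw [Subgroup.orderOf_mk]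
          exact ((MulAut.conj c).orderOf_eq F.x).trans F.hx), rfl⟩
      obtain ⟨m, hm, e⟩ := hle t.2
      rwa [← Subtype.ext e]
    · left
      by_contra hb
      have hd : Nat.card M ∣ 12096 := h.card ▸
        (card_subgroup_dvd_card M).trans (card_subgroup_dvd_card T)
      have hd' : Nat.card M ∣ 2 ^ 6 * 3 ^ 3 :=
        ((Nat.Prime.coprime_iff_not_dvd (by norm_num)).2 h7).symm.dvd_of_dvd_mul_right
          (by rw [show 2 ^ 6 * 3 ^ 3 * 7 = 12096 by norm_num]; exact hd)
      obtain ⟨a, b, ha, hb', hab⟩ := (Nat.dvd_mul).1 hd'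
      obtain ⟨i, -, rfl⟩ := (Nat.dvd_prime_pow Nat.prime_two).1 ha
      obtain ⟨j, -, rfl⟩ := (Nat.dvd_prime_pow Nat.prime_three).1 hb'
      haveI : Group.IsSolvable M :=
        CfsgLib.Char.isSolvable_of_card_two_primes Nat.prime_two Nat.prime_three M i j hab.symm
      haveI := hM
      haveI : Nontrivial M := (Subgroup.nontrivial_iff_ne_bot M).2 hb
      obtain ⟨A, hA, hA1, hAc⟩ : ∃ A : Subgroup M, A.Characteristic ∧ A ≠ ⊥ ∧ IsMulCommutative A :=
        exists_abelian M
      obtain ⟨q, hq, hqd⟩ := Nat.exists_prime_and_dvd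
        (fun e => hA1 (Subgroup.card_eq_one.1 e) : Nat.card A ≠ 1)
      have hq23 : q = 2 ∨ q = 3 := by
        have := hqd.trans ((card_subgroup_dvd_card A).trans hd')
        rcases (Nat.Prime.dvd_mul hq).1 this with e | e
        · exact Or.inl ((Nat.prime_dvd_prime_iff_eq hq Nat.prime_two).1 (hq.dvd_of_dvd_pow e))
        · exact Or.inr ((Nat.prime_dvd_prime_iff_eq hq Nat.prime_three).1 (hq.dvd_of_dvd_pow e))
      haveI := Fact.mk hq
      haveI := hAc
      obtain ⟨Q⟩ : Nonempty (Sylow q A) := inferInstance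
      haveI : (Q : Subgroup A).Normal := inferInstance
      haveI := hA
      haveI : (Q : Subgroup A).Characteristic := Sylow.characteristic_of_normal Q inferInstance
      let QT : Subgroup T := (((Q : Subgroup A).map A.subtype).map M.subtype)
      haveI : ((Q : Subgroup A).map A.subtype).Characteristic := inferInstance
      haveI hQT : QT.Normal := inferInstance
      have hQp : IsPGroup q QT := (Q.2.map _).map _
      have hQ1 : QT ≠ ⊥ := by
        simp only [QT, ne_eq, Subgroup.map_eq_bot_iff_of_injective _ (Subgroup.subtype_injective _)]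
        exact Q.ne_bot_of_dvd_card hqd
      have hcore := CfsgLib.PGroup.le_pCore hQT hQp
      haveI : (Cfsg.pCore q T).Characteristic := CfsgLib.Coprime.pCore_characteristic q
      have := h.no_pgroup F hq23 ((Cfsg.pCore q T).map T.subtype)
        ((CfsgLib.PGroup.isPGroup_pCore q T).map _)
      rw [Subgroup.map_eq_bot_iff_of_injective _ (Subgroup.subtype_injective _)] at this
      exact hQ1 (le_bot_iff.1 (this ▸ hcore))
  have hnc : ¬ IsMulCommutative T := by
    intro hc
    haveI := hc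
    letI : CommGroup T :=
      { (inferInstance : Group T) with mul_comm := fun a b => IsMulCommutative.is_comm.comm a b }
    have hp : (Nat.card T).Prime := IsSimpleGroup.prime_card (α := T)
    have h7 : orderOf (⟨F.x, hxT⟩ : T) ∣ Nat.card T := orderOf_dvd_natCard _
    rw [Subgroup.orderOf_mk, F.hx] at h7
    have hT7 : T = zpowers F.x := (eq_of_le_of_card_ge (zpowers_le.2 hxT) (by
      rw [Nat.card_zpowers, F.hx, ((Nat.prime_dvd_prime_iff_eq (by norm_num) hp).1 h7).symm])).symm
    have htop : normalizer (zpowers F.x : Set G) = ⊤ := normalizer_eq_top_iff.2 (hT7 ▸ hTn)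
    have := F.normCard
    rw [htop, Subgroup.card_top, h.card] at this
    norm_num at this
  -- the order of `T`
  set N := normalizer (zpowers F.x : Set G) with hN
  have hxN : zpowers F.x ≤ N := le_normalizer
  have hmem7 : ∀ w : G, orderOf w = 7 → w ∈ T := fun w hw => pair_contains hxT F.hx h hw
  have horb : T ⊔ N = ⊤ := by
    let S : Sylow 7 T := by
      refine Sylow.ofCard ((zpowers F.x).subgroupOf T) ?_
      rw [Nat.card_congr (subgroupOfEquivOfLe (zpowers_le.2 hxT)).toEquiv, Nat.card_zpowers, F.hx]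
      have hd := Subgroup.card_subgroup_dvd_card T
      rw [h.card] at hd
      have h1 : 7 ∣ Nat.card T := by
        have := Subgroup.orderOf_dvd_natCard T hxT
        rwa [F.hx] at this
      have h2 : ¬ 7 ^ 2 ∣ Nat.card T := fun e => by
        have := e.trans hd; norm_num at this
      have a1 := ((Nat.Prime.dvd_iff_one_le_factorization (by norm_num) Nat.card_pos.ne').1 h1)
      have a2 : ¬ 2 ≤ (Nat.card T).factorization 7 := fun e =>
        h2 ((Nat.Prime.pow_dvd_iff_le_factorization (by norm_num) Nat.card_pos.ne').2 e)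
      rw [show (Nat.card T).factorization 7 = 1 by omega, pow_one]
    have := Sylow.normalizer_sup_eq_top S
    rw [show ((S : Subgroup T).map T.subtype) = zpowers F.x from by
      show ((zpowers F.x).subgroupOf T).map T.subtype = _
      exact map_subgroupOf_eq_of_le (zpowers_le.2 hxT)] at this
    rw [sup_comm]; exact this
  have hcard : Nat.card T * 42 = 12096 * Nat.card ↥(T ⊓ N) := by
    have h1 := Subgroup.card_mul_index T
    have h2 := Subgroup.card_mul_index (T.subgroupOf N)
    have h3 : (T.subgroupOf N).index = T.index := by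
      show T.relIndex N = T.index
      rw [← Subgroup.relIndex_top_right T, ← horb, sup_comm, Subgroup.relIndex_sup_right]
    rw [h.card] at h1
    rw [h3, F.normCard, ← Subgroup.inf_subgroupOf_right,
      Nat.card_congr (Subgroup.subgroupOfEquivOfLe (show T ⊓ N ≤ N from inf_le_right)).toEquiv] at h2
    rw [← h1, ← h2]
    ring
  have hd : Nat.card ↥(T ⊓ N) ∈ Nat.divisors 42 := Nat.mem_divisors.2
    ⟨F.normCard ▸ card_dvd_of_le (inf_le_right : T ⊓ N ≤ N), by norm_num⟩
  have hxTN : F.x ∈ T ⊓ N := ⟨hxT, hxN (mem_zpowers _)⟩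
  have hd7 : 7 ∣ Nat.card ↥(T ⊓ N) := by
    have := Subgroup.orderOf_dvd_natCard _ hxTN
    rwa [F.hx] at this
  have hyN : F.y ∈ N := by
    rw [hN, Subgroup.mem_normalizer_iff_map_conj_eq, MonoidHom.map_zpowers]
    refine le_antisymm (zpowers_le.2 ?_) (zpowers_le.2 ?_)
    · simp [MulAut.conj_apply, F.conj]
    · refine mem_zpowers_iff.2 ⟨5, ?_⟩
      simp only [MonoidHom.coe_coe, MulEquiv.coe_toMonoidHom, MulAut.conj_apply, F.conj]
      rw [show (5 : ℤ) = ((5 : ℕ) : ℤ) from rfl, zpow_natCast, ← pow_mul, ← pow_mod_orderOf, F.hx]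
      norm_num
  have hG := Subgroup.card_mul_index T
  rw [h.card] at hG
  rcases two_three_dvd _ hd hd7 with e | e | e | e <;> rw [e] at hcard
  · exfalso
    rcases CfsgLib.Perm.OrdersMid.card_mem_mid hnc (by omega) (by omega) with e' | e' | e' <;> omega
  · exfalso
    rcases CfsgLib.Perm.OrdersRange.card_mem_range hnc (by omega) (by omega) with e' | e' | e' | e' <;>
      omega
  · have h6 : Nat.card T = 6048 := by omega
    have hidx : T.index = 2 := by rw [h6] at hG; omega
    refine ⟨⟨T, hTn, hsimp, hnc, hxT, Or.inr ⟨h6, hidx, fun hy => ?_, ?_⟩⟩⟩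
    · have hle : N ≤ T ⊓ N := by
        refine le_inf (fun g hg => ?_) le_rfl
        obtain ⟨i, j, -, rfl⟩ := F.norm g (((mem_normalizer_iff.1 hg) F.x).1 (mem_zpowers _))
        exact mul_mem (pow_mem hxT i) (pow_mem hy j)
      have := Nat.le_of_dvd (by rw [e]; norm_num) (card_dvd_of_le hle)
      rw [F.normCard, e] at this
      omega
    · exact sq_mem_of_index_two hidx F.y
  · exact ⟨⟨T, hTn, hsimp, hnc, hxT, Or.inl ⟨by omega, eq_top_of_card_eq T (by rw [h.card]; omega)⟩⟩⟩

end CfsgLib.Char.GTwoTwo
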